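import Cfsg.Agent.Lib.SuzRec.Graph
import Cfsg.Agent.S5746
import Cfsg.Agent.S1679
import Cfsg.Agent.S1680
import Cfsg.Agent.S1694

/-! The presented Suzuki group as a rank three group, and the recognition. -/

set_option autoImplicit false
set_option maxRecDepth 20000

namespace Cfsg.Agent.SuzRec

open Cfsg.Agent.PermCert Cfsg.Agent.G24J2

attribute [local irreducible] g24Gens g24Levels

/-- Any copy of the Chevalley group over four elements is the coded group. -/
theorem equiv_M {K : Type*} [Field K] [Fintype K] (hK : Fintype.card K = 4) :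
    Nonempty (Cfsg.Lie.chevG2.group K ≃* M) := by
  classical
  obtain ⟨f⟩ := S5746.group_equiv Cfsg.Lie.chevG2
    (FiniteField.ringEquivOfCardEq (K := K) (K' := G24.F4) (by rw [hK, G24.F4.card]))
  obtain ⟨e⟩ := g24_equiv
  exact ⟨f.trans e⟩

theorem setup_of_quotient {P : Type*} [Group P] (H : Subgroup P) (hP : IsSimpleGroup P)
    (hfin : Finite P) (φ : H ≃* M) (hi : H.index = 1782)
    (hq : ∃ q₁ q₂ : P ⧸ H, (MulAction.orbit H q₁).ncard = 416 ∧ (MulAction.orbit H q₂).ncard = 1365) :
    Nonempty (Setup P (P ⧸ H)) := by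
  obtain ⟨q₁, q₂, h1, h2⟩ := hq
  have hst : MulAction.stabilizer P ((1 : P) : P ⧸ H) = H := MulAction.stabilizer_quotient H
  have horb : ∀ q : P ⧸ H,
      MulAction.orbit (MulAction.stabilizer P ((1 : P) : P ⧸ H)) q = MulAction.orbit H q := fun q => by
    ext x
    constructor
    · rintro ⟨k, rfl⟩
      exact ⟨⟨(k : P), (SetLike.ext_iff.1 hst _).1 k.2⟩, rfl⟩
    · rintro ⟨k, rfl⟩
      exact ⟨⟨(k : P), (SetLike.ext_iff.1 hst _).2 k.2⟩, rfl⟩
  have hfaith : FaithfulSMul P (P ⧸ H) := by
    have hk : (MulAction.toPermHom P (P ⧸ H)).ker = ⊥ := by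
      rw [← Subgroup.normalCore_eq_ker]
      rcases hP.eq_bot_or_eq_top_of_normal H.normalCore H.normalCore_normal with e | e
      · exact e
      · exfalso
        have : H = ⊤ := top_le_iff.1 (e ▸ H.normalCore_le)
        rw [this, Subgroup.index_top] at hi
        omega
    exact ⟨fun {g g'} h => (MonoidHom.ker_eq_bot_iff _).1 hk (Equiv.ext h)⟩
  exact ⟨{
    finite := hfin
    finiteΩ := inferInstance
    faithful := hfaith
    trans := inferInstance
    card := hi
    a := ((1 : P) : P ⧸ H)
    φ := (MulEquiv.subgroupCongr hst).trans φ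
    b := q₁
    c := q₂
    hb := (congrArg Set.ncard (horb q₁)).trans h1
    hc := (congrArg Set.ncard (horb q₂)).trans h2 }⟩

/-- The presented group has a set-up. -/
theorem exists_setup_suz :
    ∃ (Ω : Type) (_ : MulAction Cfsg.Spor.Suz Ω), Nonempty (Setup Cfsg.Spor.Suz Ω) := by
  obtain ⟨hsimp, hcard⟩ := S1694.result
  obtain ⟨K, hF, hft, hK, ⟨e⟩⟩ := S1679.result
  obtain ⟨e'⟩ := equiv_M hK
  have hfin : Finite Cfsg.Spor.Suz := Nat.finite_of_card_ne_zero (by rw [hcard]; norm_num)
  exact ⟨_, inferInstance, setup_of_quotient _ hsimp hfin (e.trans e') S1680.result.1 S1680.result.2⟩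

/-- **The recognition.** -/
theorem recognise {Ω : Type*} [Fintype Ω] [DecidableEq Ω] (hΩ : Fintype.card Ω = 1782)
    (G : Subgroup (Equiv.Perm Ω)) [MulAction.IsPretransitive G Ω] (a : Ω) (K : Type) [Field K]
    [Fintype K] (hK : Fintype.card K = 4)
    (e : MulAction.stabilizer G a ≃* Cfsg.Lie.chevG2.group K) (b c : Ω)
    (hb : (MulAction.orbit (MulAction.stabilizer G a) b).ncard = 416)
    (hc : (MulAction.orbit (MulAction.stabilizer G a) c).ncard = 1365) :
    Nonempty (G ≃* Cfsg.Spor.Suz) := by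
  obtain ⟨e'⟩ := equiv_M hK
  obtain ⟨Ω', hact, ⟨S'⟩⟩ := exists_setup_suz
  exact nonempty_equiv_of_setup
    ({ finite := inferInstance
       finiteΩ := inferInstance
       faithful := inferInstance
       trans := inferInstance
       card := by rw [Nat.card_eq_fintype_card, hΩ]
       a := a
       φ := e.trans e'
       b := b
       c := c
       hb := hb
       hc := hc } : Setup G Ω) S'

end Cfsg.Agent.SuzRec
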