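import Cfsg.Agent.Lib.SuzRec.BaseCheck

/-! The coded G₂(4): cardinality, faithfulness on the base, and the checked search. -/

set_option autoImplicit false
set_option maxRecDepth 20000

namespace Cfsg.Agent.SuzRec

open Cfsg.Agent.PermCert Cfsg.Agent.G24J2

/-- The coded G₂(4) on 416 points. -/
abbrev M : Subgroup (Equiv.Perm (Fin 416)) := genGroup 9 416 g24Gens

/-- The base of the chain. -/
abbrev basePts : List ℕ := [0, 1, 2, 4, 5, 8]

/-- Images of the base, packed. -/
def keyW (es : List Elt) : ℕ :=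
  basePts.foldr (fun b acc => appE 9 es b + 512 * acc) 0

attribute [local irreducible] g24Gens g24Derived g24Levels labs orbGLab orbGTree

theorem valid_of_rep {w n : ℕ} {e : Elt} {σ : Equiv.Perm (Fin n)} (h : Rep w e σ) :
    validElt w n e = true := by
  have key : ∀ k ≤ n, allBelow (fun i => Nat.blt (get w e.1 i) n && Nat.blt (get w e.2 i) n &&
      Nat.beq (get w e.1 (get w e.2 i)) i && Nat.beq (get w e.2 (get w e.1 i)) i) k = true := by
    intro k hk
    induction k with
    | zero => rfl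
    | succ k ih =>
      obtain ⟨h1, h2⟩ := h ⟨k, hk⟩
      have e1 := (h (σ⁻¹ ⟨k, hk⟩)).1
      have e2 := (h (σ ⟨k, hk⟩)).2
      rw [Equiv.Perm.inv_def, Equiv.apply_symm_apply] at e1
      rw [Equiv.Perm.inv_def, Equiv.symm_apply_apply] at e2
      simp only [allBelow, Bool.and_eq_true, Nat.blt_eq, Nat.beq_eq]
      refine ⟨ih (by omega), ⟨⟨⟨?_, ?_⟩, ?_⟩, ?_⟩⟩
      · exact h1 ▸ Fin.is_lt _
      · exact h2 ▸ Fin.is_lt _
      · rw [show get w e.2 k = _ from h2]; exact e1
      · rw [show get w e.1 k = _ from h1]; exact e2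
  exact key n le_rfl

theorem trans_valid : ((transCodes g24Levels).all fun e => validElt 9 416 e) = true := by
  have key : ∀ L : List CLevel, AllRep 9 416 L → ∀ e ∈ transCodes L, validElt 9 416 e = true := by
    intro L
    induction L with
    | nil => intro _ e he; simp [transCodes] at he
    | cons l L ih =>
      obtain ⟨b, S, T⟩ := l
      rintro ⟨-, hT, hL⟩ e he
      simp only [transCodes, List.flatMap_cons, List.mem_append] at he
      rcases he with he | he
      · obtain ⟨t, ht, rfl⟩ := List.mem_map.1 he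
        obtain ⟨σ, hσ⟩ := hT t ht
        exact valid_of_rep hσ
      · exact ih hL e he
  exact List.all_eq_true.2 (key _ (J2.cert_allRep g24_cert))

theorem card_M : Nat.card M = 251596800 := (cert_card g24_cert).trans g24_order

theorem mem_M_prodSet {σ : Equiv.Perm (Fin 416)} :
    σ ∈ M ↔ σ ∈ prodSet (interp 9 416 g24Levels) := J2.cert_prodSet g24_cert σ

theorem mem_interp {w n : ℕ} [NeZero n] : ∀ {L : List CLevel}
    {l : Level (Equiv.Perm (Fin n)) (Fin n)}, l ∈ interp w n L → ∃ l' ∈ L, l.1 = Fin.ofNat n l'.1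
  | [], l, h => by simp [interp] at h
  | (b, S, T) :: L, l, h => by
    rw [interp, List.mem_cons] at h
    rcases h with rfl | h
    · exact ⟨_, List.mem_cons_self, rfl⟩
    · obtain ⟨l', h1, h2⟩ := mem_interp h
      exact ⟨l', List.mem_cons_of_mem _ h1, h2⟩

/-- An element of M is known from the images of the base. -/
theorem eq_of_base {σ τ : Equiv.Perm (Fin 416)} (hσ : σ ∈ M) (hτ : τ ∈ M)
    (h : ∀ i : Fin 416, (i : ℕ) ∈ basePts → σ i = τ i) : σ = τ := by
  have hm := mem_M_prodSet.1 (mul_mem (inv_mem hτ) hσ)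
  obtain ⟨hg, -⟩ := cert_good g24_cert
  refine (inv_mul_eq_one.1 (J2.eq_one_of_fix hg hm fun l hl => ?_)).symm
  obtain ⟨l', hl', e⟩ := mem_interp hl
  have hb : l'.1 ∈ g24Levels.map (fun l => l.1) := List.mem_map.2 ⟨l', hl', rfl⟩
  rw [levels_base] at hb
  rw [e]
  have hlt : l'.1 < 416 := by
    simp only [List.mem_cons, List.not_mem_nil, or_false] at hb
    omega
  rw [Equiv.Perm.smul_def, Equiv.Perm.mul_apply, h _ (by simp [Nat.mod_eq_of_lt hlt]; simpa using hb), Equiv.Perm.inv_def,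
    Equiv.symm_apply_apply]

theorem pack512 {x y a b : ℕ} (hx : x < 512) (hy : y < 512) (h : x + 512 * a = y + 512 * b) :
    x = y ∧ a = b := by omega

/-- Equal keys give equal elements. -/
theorem eq_of_key {es fs : List Elt} (he : ∀ e ∈ es, validElt 9 416 e = true)
    (hf : ∀ e ∈ fs, validElt 9 416 e = true) (hE : toW 9 416 es ∈ M) (hF : toW 9 416 fs ∈ M)
    (h : keyW es = keyW fs) : toW 9 416 es = toW 9 416 fs := by
  refine eq_of_base hE hF fun i hi => Fin.ext ?_
  have hb : ∀ b : ℕ, b < 416 → appE 9 es b < 512 ∧ appE 9 fs b < 512 := fun b hb => by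
    rw [appE_toW he ⟨b, hb⟩, appE_toW hf ⟨b, hb⟩]
    exact ⟨(Fin.is_lt _).trans (by norm_num), (Fin.is_lt _).trans (by norm_num)⟩
  simp only [keyW, basePts, List.foldr_cons, List.foldr_nil] at h
  obtain ⟨h0, h⟩ := pack512 (hb 0 (by norm_num)).1 (hb 0 (by norm_num)).2 h
  obtain ⟨h1, h⟩ := pack512 (hb 1 (by norm_num)).1 (hb 1 (by norm_num)).2 h
  obtain ⟨h2, h⟩ := pack512 (hb 2 (by norm_num)).1 (hb 2 (by norm_num)).2 h
  obtain ⟨h4, h⟩ := pack512 (hb 4 (by norm_num)).1 (hb 4 (by norm_num)).2 h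
  obtain ⟨h5, h⟩ := pack512 (hb 5 (by norm_num)).1 (hb 5 (by norm_num)).2 h
  obtain ⟨h8, -⟩ := pack512 (hb 8 (by norm_num)).1 (hb 8 (by norm_num)).2 h
  simp only [basePts, List.mem_cons, List.not_mem_nil, or_false] at hi
  rw [← appE_toW he, ← appE_toW hf]
  rcases hi with e | e | e | e | e | e <;> rw [e] <;> assumption

/-- A checked code lies in M. -/
theorem code_mem {e : Elt} (h : (validElt 9 416 e && sift 9 416 g24Levels e.1) = true) :
    validElt 9 416 e = true ∧ toPerm 9 416 e ∈ M := by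
  rw [Bool.and_eq_true] at h
  exact ⟨h.1, cert_mem g24_cert h.1 h.2⟩

/-- The checked codes of elements of M. -/
def allIn (es : List Elt) : Bool :=
  es.all fun e => validElt 9 416 e && sift 9 416 g24Levels e.1

theorem word_mem : ∀ {es : List Elt}, allIn es = true →
    (∀ e ∈ es, validElt 9 416 e = true) ∧ toW 9 416 es ∈ M
  | [], _ => ⟨by simp, one_mem _⟩
  | e :: es, h => by
    rw [allIn, List.all_cons, Bool.and_eq_true] at h
    obtain ⟨h1, h2⟩ := code_mem h.1
    obtain ⟨h3, h4⟩ := word_mem (es := es) h.2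
    refine ⟨fun x hx => ?_, by rw [toW_cons]; exact mul_mem h2 h4⟩
    rcases List.mem_cons.1 hx with rfl | hx
    · exact h1
    · exact h3 x hx

/-- **Completeness of the search in M.** -/
theorem search_M {cs : List (List Elt × List Elt)} {pts : List (ℕ × ℕ)}
    (hcs : ∀ uv ∈ cs, (∀ e ∈ uv.1, validElt 9 416 e = true) ∧ ∀ e ∈ uv.2, validElt 9 416 e = true)
    (hpts : ∀ p ∈ pts, p.1 < 416 ∧ p.2 < 416) {g : Equiv.Perm (Fin 416)} (hg : g ∈ M)
    (hc : ∀ uv ∈ cs, g * toW 9 416 uv.1 = toW 9 416 uv.2 * g)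
    (hp : ∀ p ∈ pts, ∀ i : Fin 416, (i : ℕ) = p.1 → (g i : ℕ) = p.2) :
    ∃ es ∈ srch 9 9 cs g24Levels labs [] pts,
      (∀ e ∈ es, validElt 9 416 e = true) ∧ toW 9 416 es = g := by
  obtain ⟨hgood, -⟩ := cert_good g24_cert
  obtain ⟨es, h1, h2, h3⟩ := srch_complete hcs hgood
    (fun e he => List.all_eq_true.1 trans_valid e he)
    (fun l hl => by
      have hb : l.1 ∈ g24Levels.map (fun l => l.1) := List.mem_map.2 ⟨l, hl, rfl⟩
      rw [levels_base] at hb
      simp only [List.mem_cons, List.not_mem_nil, or_false] at hb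
      omega)
    labs_check (pre := []) (by simp) hpts g (mem_M_prodSet.1 hg)
    (fun uv huv => by simpa using hc uv huv) (fun p hp' i hi => by simpa using hp p hp' i hi)
  exact ⟨es, h1, h2, by simpa using h3⟩

/-- M is transitive. -/
theorem M_trans (p q : Fin 416) : ∃ σ ∈ M, σ p = q := by
  have h := orbG_all
  rw [Bool.and_eq_true, beq_iff_eq] at h
  have hl : ∀ x : Fin 416, labOf orbGLab x = 0 := fun x =>
    Nat.eq_of_beq_eq_true (allBelow_spec _ _ h.2 x x.2)
  exact (orbit_iff orbG_ok p q (by rw [hl, h.1]; exact Nat.zero_lt_one)).2 (by rw [hl, hl])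

/-- The stabiliser of a point. -/
def Jp (p : Fin 416) : Subgroup (Equiv.Perm (Fin 416)) :=
  M ⊓ MulAction.stabilizer (Equiv.Perm (Fin 416)) p

theorem mem_Jp {p : Fin 416} {σ : Equiv.Perm (Fin 416)} : σ ∈ Jp p ↔ σ ∈ M ∧ σ p = p := Iff.rfl

theorem card_Jp (p : Fin 416) : Nat.card (Jp p) = 604800 := by
  have h0 := Subgroup.card_mul_index (MulAction.stabilizer M p)
  have horb : MulAction.orbit M p = Set.univ := Set.eq_univ_of_forall fun q => by
    obtain ⟨σ, hσ, e⟩ := M_trans p q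
    exact ⟨⟨σ, hσ⟩, e⟩
  rw [MulAction.index_stabilizer, horb, Set.ncard_univ, Nat.card_fin, card_M] at h0
  have e : MulAction.stabilizer M p = (Jp p).subgroupOf M := by
    ext ⟨σ, hσ⟩
    exact ⟨fun h => ⟨hσ, h⟩, fun h => h.2⟩
  rw [e, Nat.card_congr (Subgroup.subgroupOfEquivOfLe (show Jp p ≤ M from inf_le_left)).toEquiv] at h0
  omega

end Cfsg.Agent.SuzRec
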