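import Cfsg.Agent.Lib.SuzRec.Search
import Cfsg.Agent.Lib.SuzRec.DataFive
import Cfsg.Agent.Lib.G24J2.Main

/-! Kernel checks on the chain of the coded G₂(4). -/

set_option autoImplicit false
set_option maxRecDepth 20000
set_option Elab.async false

namespace Cfsg.Agent.SuzRec

open Cfsg.Agent.PermCert Cfsg.Agent.G24J2

theorem levels_base : g24Levels.map (fun l => l.1) = [0, 1, 2, 4, 5, 8] := by decide +kernel

theorem labs_check : labsOK 9 9 416 g24Levels labs = true := by decide +kernel

theorem orbG_all : (orbGRoots == [0] && allBelow (fun x => Nat.beq (labOf orbGLab x) 0) 416) = true := by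
  decide +kernel

end Cfsg.Agent.SuzRec
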