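import Cfsg.Agent.Lib.SuzRec.Search

/-! The same search, arranged for fast evaluation in the kernel. -/

set_option autoImplicit false

namespace Cfsg.Agent.SuzRec

open Cfsg.Agent.PermCert

/-- Apply a function to an evaluated number. -/
def force {α : Type} (n : ℕ) (k : ℕ → α) : α := Nat.rec (k 0) (fun m _ => k (m + 1)) n

theorem force_eq {α : Type} (k : ℕ → α) : ∀ n, force n k = k n
  | 0 => rfl
  | _ + 1 => rfl

/-- Read nine bits. -/
def getF (p i : ℕ) : ℕ := Nat.land (Nat.shiftRight p (Nat.mul 9 i)) 511

theorem getF_eq (p i : ℕ) : getF p i = get 9 p i := Nat.and_two_pow_sub_one_eq_mod _ 9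

/-- Apply a word. -/
def appEF (es : List Elt) (i : ℕ) : ℕ :=
  List.rec (motive := fun _ => ℕ) i (fun e _ r => getF e.1 r) es

theorem appEF_eq : ∀ (es : List Elt) (i : ℕ), appEF es i = appE 9 es i
  | [], _ => rfl
  | e :: es, i => by
    show getF e.1 (appEF es i) = get 9 e.1 (appE 9 es i)
    rw [getF_eq, appEF_eq es i]

/-- Apply the inverse of a word. -/
def appIF (es : List Elt) : ℕ → ℕ :=
  List.rec (motive := fun _ => ℕ → ℕ) (fun x => x) (fun e _ r => fun x => r (getF e.2 x)) es

theorem appIF_eq : ∀ (es : List Elt) (i : ℕ), appIF es i = appI 9 es i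
  | [], _ => rfl
  | e :: es, i => by
    show appIF es (getF e.2 i) = appI 9 es (get 9 e.2 i)
    rw [getF_eq, appIF_eq es]

/-- The test at a node. -/
def nodeF (c : ℕ) (pre : List Elt) (pts : List (ℕ × ℕ)) : Bool :=
  List.rec (motive := fun _ => Bool) true
    (fun p _ r => bif Nat.beq (getF c (appIF pre p.2)) (getF c p.1) then r else false) pts

theorem nodeF_eq (c : ℕ) (pre : List Elt) : ∀ pts, nodeF c pre pts = nodeOK 9 9 c pre pts
  | [] => rfl
  | p :: pts => by
    show (bif Nat.beq (getF c (appIF pre p.2)) (getF c p.1) then nodeF c pre pts else false) = _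
    rw [getF_eq, getF_eq, appIF_eq, nodeF_eq c pre pts, nodeOK, nodeOK, List.all_cons]
    cases Nat.beq (get 9 c (appI 9 pre p.2)) (get 9 c p.1) <;> rfl

/-- The test at a leaf. -/
def endF (pre : List Elt) (pts : List (ℕ × ℕ)) : Bool :=
  List.rec (motive := fun _ => Bool) true
    (fun p _ r => bif Nat.beq (appEF pre p.1) p.2 then r else false) pts

theorem endF_eq (pre : List Elt) : ∀ pts,
    endF pre pts = pts.all fun p => Nat.beq (appE 9 pre p.1) p.2
  | [] => rfl
  | p :: pts => by
    show (bif Nat.beq (appEF pre p.1) p.2 then endF pre pts else false) = _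
    rw [appEF_eq, endF_eq pre pts, List.all_cons]
    cases Nat.beq (appE 9 pre p.1) p.2 <;> rfl

/-- The new constraints of a child. -/
def pushF {α : Type} (cs : List (List Elt × List Elt)) (b y : ℕ) (k : List (ℕ × ℕ) → α) :
    List (ℕ × ℕ) → α :=
  List.rec (motive := fun _ => List (ℕ × ℕ) → α) k
    (fun uv _ r => fun pts => r' uv r pts) cs
where
  r' (uv : List Elt × List Elt) (r : List (ℕ × ℕ) → α) (pts : List (ℕ × ℕ)) : α :=
    force (appEF uv.1 b) fun x => force (appEF uv.2 y) fun z => r ((x, z) :: pts)

/-- The search. -/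
def srchFast (cs : List (List Elt × List Elt)) (L : List CLevel) :
    List ℕ → List Elt → List (ℕ × ℕ) → List (List Elt) :=
  List.rec (motive := fun _ => List ℕ → List Elt → List (ℕ × ℕ) → List (List Elt))
    (fun _ pre pts => bif endF pre pts then [pre] else [])
    (fun l _ rec labs => List.rec (motive := fun _ => List Elt → List (ℕ × ℕ) → List (List Elt))
      (fun _ _ => [])
      (fun c labs _ pre pts => bif nodeF c pre pts then
        List.rec (motive := fun _ => List (List Elt)) []
          (fun t _ acc => List.append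
            (force (appEF (pre ++ [t.2.1]) l.1) fun y =>
              pushF cs.reverse l.1 y (fun pts' => rec labs (pre ++ [t.2.1]) pts') pts) acc) l.2.2
      else []) labs) L

theorem pushF_eq {α : Type} (b y : ℕ) (k : List (ℕ × ℕ) → α) : ∀ (cs : List (List Elt × List Elt))
    (pts : List (ℕ × ℕ)), pushF cs b y k pts =
      k ((cs.map fun uv => (appE 9 uv.1 b, appE 9 uv.2 y)).reverse ++ pts)
  | [], _ => rfl
  | uv :: cs, pts => by
    show pushF.r' b y uv (pushF cs b y k) pts = _
    rw [pushF.r', force_eq, force_eq, pushF_eq b y k cs, appEF_eq, appEF_eq]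
    simp

theorem srchFast_eq (cs : List (List Elt × List Elt)) : ∀ (L : List CLevel) (labs : List ℕ)
    (pre : List Elt) (pts : List (ℕ × ℕ)), srchFast cs L labs pre pts = srch 9 9 cs L labs pre pts
  | [], labs, pre, pts => by
    show (bif endF pre pts then [pre] else []) = _
    rw [endF_eq, srch]
    cases h : pts.all fun p => Nat.beq (appE 9 pre p.1) p.2 <;> simp
  | (b, S, T) :: L, [], pre, pts => by rw [srch]; rfl
  | (b, S, T) :: L, c :: labs, pre, pts => by
    rw [srch, ← nodeF_eq]
    show (bif nodeF c pre pts then _ else _) = _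
    cases nodeF c pre pts
    · simp
    · simp only [cond_true, if_true]
      induction T with
      | nil => rfl
      | cons t T ih =>
        rw [List.flatMap_cons, ← ih]
        show List.append _ _ = _
        rw [force_eq, pushF_eq]
        show List.append (srchFast cs L labs _ _) _ = _
        rw [srchFast_eq cs L]
        simp [appEF_eq]

end Cfsg.Agent.SuzRec
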