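import Cfsg.Agent.Lib.SuzRec.FiveDefs
import Cfsg.Agent.Lib.SuzRec.DataJ

/-! Kernel checks on elements of order five. -/

set_option autoImplicit false
set_option maxRecDepth 100000
set_option Elab.async false

namespace Cfsg.Agent.SuzRec

open Cfsg.Agent.PermCert

theorem gen_ok : genTest = true := by decide +kernel

theorem pKey_ok : pKeyTest = true := by decide +kernel

theorem twelve_ok : twelveTest = true := by decide +kernel

theorem slope_ok : slopeTest = true := by decide +kernel

theorem q_ok : allBelow qTest 6 = true := by decide +kernel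

theorem pair_ok : (allBelow pairTest 9 && Nat.beq pairs.length 9) = true := by decide +kernel

theorem pairs_cover : ∀ s : Finset (Fin 6), 3 ≤ s.card →
    (0 ∈ s ∧ 1 ∈ s ∧ 2 ∈ s) ∨ ∃ p ∈ pairs, (∃ i ∈ s, i.val = p.1) ∧ ∃ j ∈ s, j.val = p.2 := by
  decide +kernel

theorem j3_gens : j3Gens = [u0E, u3E, qE.getD 0 (0, 0), qE.getD 1 (0, 0), qE.getD 2 (0, 0)] := by
  decide +kernel

theorem j3_light : lightCert 9 416 j3Gens j3Derived j3Levels = true := by decide +kernel

theorem j3_order : certOrder j3Levels = 604800 := by decide +kernel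

end Cfsg.Agent.SuzRec
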