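import Cfsg.Agent.Lib.SuzRec.FiveCheckC1

/-! Kernel check: elements of order five commuting with the element 2 of the six. -/

set_option autoImplicit false
set_option maxRecDepth 100000

namespace Cfsg.Agent.SuzRec

theorem cent2_ok : centTest 2 = true := by
  rw [centTest, ← srchFast_eq]
  decide +kernel

end Cfsg.Agent.SuzRec
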