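import Cfsg.Agent.Lib.SuzRec.FiveDefs
import Cfsg.Agent.Lib.SuzRec.Fast

/-! Kernel check: the centraliser of the first generator. -/

set_option autoImplicit false
set_option maxRecDepth 100000
set_option Elab.async false

namespace Cfsg.Agent.SuzRec

open Cfsg.Agent.G24J2

theorem first_ok : (centTest 0 && nTest) = true := by
  rw [centTest, nTest, nList, ← srchFast_eq]
  decide +kernel

theorem gl25_ok : gl25Test = true := by decide +kernel

end Cfsg.Agent.SuzRec
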