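import Cfsg.Agent.Lib.SuzRec.Base

/-! The tests on elements of order five. -/

set_option autoImplicit false

namespace Cfsg.Agent.SuzRec

open Cfsg.Agent.PermCert Cfsg.Agent.G24J2

/-- The word of an element of the subgroup of order 25. -/
def pW (a b : ℕ) : List Elt := List.replicate a u0E ++ List.replicate b u3E

/-- The six elements of order five. -/
def uW (i : ℕ) : List Elt := pW (lineExp.getD i (0, 0)).1 (lineExp.getD i (0, 0)).2

/-- A commuting element for each of the six. -/
def qW (i : ℕ) : List Elt := [qE.getD i (0, 0)]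

/-- The element moving the six around. -/
def shW (i : ℕ) : Elt := bif Nat.beq (lineExp.getD i (0, 0)).2 0 then u3E else u0E

/-- A power of a word. -/
def powW (es : List Elt) (k : ℕ) : List Elt := (List.replicate k es).flatten

/-- A conjugate of a product in the group of a line. -/
def okW (i k a b : ℕ) : List Elt :=
  List.replicate k (shW i) ++ powW (uW i) a ++ powW (qW i) b ++ invW (List.replicate k (shW i))

/-- Triples of exponents. -/
def trips : List (ℕ × ℕ × ℕ) :=
  (List.range 5).flatMap fun k => (List.range 5).flatMap fun a => (List.range 5).map fun b => (k, a, b)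

/-- The keys expected for one of the six. -/
def okList (i : ℕ) : List ℕ := trips.map fun t => keyW (okW i t.1 t.2.1 t.2.2)

/-- Two words agree everywhere. -/
def sameW (es fs : List Elt) : Bool := allBelow (fun x => Nat.beq (appE 9 es x) (appE 9 fs x)) 416

/-- Membership of a key. -/
def keyIn (l : List ℕ) (k : ℕ) : Bool := l.any fun y => Nat.beq y k

/-- Basic facts on the two generators and the six further elements. -/
def genTest : Bool :=
  allIn [u0E, u3E] && allIn qE && Nat.beq qE.length 6 && sameW (powW [u0E] 5) [] &&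
    sameW (powW [u3E] 5) [] && sameW [u0E, u3E] [u3E, u0E] &&
    Nat.beq (appE 9 [u0E] 0) 0 && Nat.beq (appE 9 [u3E] 0) 0 &&
    allBelow (fun x => Nat.beq x 0 || !Nat.beq (appE 9 [u0E] x) x) 416

/-- The keys of the subgroup of order 25. -/
def pKeyTest : Bool :=
  allBelow (fun a => allBelow (fun b => Nat.beq (pKeys.getD (5 * a + b) 0) (keyW (pW a b))) 5) 5 &&
    Nat.beq pKeys.length 25 && distinctKeys pKeys

/-- The exponents of elements with one fixed point. -/
def twelveTest : Bool :=
  allBelow (fun a => allBelow (fun b => (Nat.beq a 0 && Nat.beq b 0) ||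
    (twelveExp.any fun v => Nat.beq v.1 a && Nat.beq v.2 b) ||
    ((List.range 415).any fun x => Nat.beq (appE 9 (pW a b) (x + 1)) (x + 1))) 5) 5

/-- Every element of order five of the subgroup has one of the six as a power. -/
def slopeTest : Bool :=
  allBelow (fun a => allBelow (fun b => (Nat.beq a 0 && Nat.beq b 0) ||
    ((List.range 6).any fun i => (List.range 5).any fun k =>
      Nat.beq (lineExp.getD i (0, 0)).1 (k * a % 5) && Nat.beq (lineExp.getD i (0, 0)).2 (k * b % 5))) 5) 5

/-- The centraliser of the first generator, listed by the search. -/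
def nList : List (List Elt) :=
  (srch 9 9 [(uW 0, uW 0)] g24Levels labs [] []).filter fun es =>
    keyIn pKeys (keyW (es ++ u3E :: invW es))

/-- At most 50 of those normalise the subgroup of order 25; those of order seven fixing both
generators lie in it. -/
def nTest : Bool :=
  Nat.ble nList.length 50 &&
    nList.all fun es => !Nat.beq (keyW (powW es 7)) (keyW []) ||
      !Nat.beq (keyW (es ++ u3E :: invW es)) (keyW [u3E]) || keyIn pKeys (keyW es)

/-- A matrix over the integers modulo five applied to a pair. -/
def matStep (a b c d : ℕ) (v : ℕ × ℕ) : ℕ × ℕ :=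
  ((a * v.1 + c * v.2) % 5, (b * v.1 + d * v.2) % 5)

/-- Seven steps. -/
def matPow7 (a b c d : ℕ) (v : ℕ × ℕ) : ℕ × ℕ :=
  (List.range 7).foldl (fun w _ => matStep a b c d w) v

/-- No matrix over the integers modulo five has order seven. -/
def gl25Test : Bool :=
  allBelow (fun a => allBelow (fun b => allBelow (fun c => allBelow (fun d =>
    !(matPow7 a b c d (1, 0) == (1, 0) && matPow7 a b c d (0, 1) == (0, 1)) ||
      (Nat.beq a 1 && Nat.beq b 0 && Nat.beq c 0 && Nat.beq d 1)) 5) 5) 5) 5

/-- The further elements. -/
def qTest (i : ℕ) : Bool :=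
  sameW (powW (qW i) 5) [] && sameW (uW i ++ qW i) (qW i ++ uW i) &&
    !keyIn pKeys (keyW (qW i)) && (okKeys.getD i [] == okList i)

/-- Elements of order five commuting with one of the six. -/
def centTest (i : ℕ) : Bool :=
  (srch 9 9 [(uW i, uW i)] g24Levels labs [] []).all fun es =>
    !Nat.beq (keyW (powW es 5)) (keyW []) || keyIn pKeys (keyW es) || keyIn (okKeys.getD i []) (keyW es)

/-- The orbit trees of the pairs. -/
def pairTest (k : ℕ) : Bool :=
  let p := pairs.getD k (0, 0)
  let t : List (ℕ × ℕ × ℕ) := pairTrees.getD k []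
  J2.treeOK 9 [u0E, u3E, qE.getD p.1 (0, 0), qE.getD p.2 (0, 0)] [0] t &&
    Nat.beq (([0] ++ t.map fun (s : ℕ × ℕ × ℕ) => s.1).foldr (fun x m => Nat.lor (Nat.shiftLeft 1 x) m) 0)
      (2 ^ 416 - 1) &&
    Nat.blt p.1 6 && Nat.blt p.2 6

end Cfsg.Agent.SuzRec
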