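import Cfsg.Agent.Lib.SuzRec.FiveCheck

/-! The subgroup of order 25 and its words. -/

set_option autoImplicit false
set_option maxRecDepth 20000

namespace Cfsg.Agent.SuzRec

open Cfsg.Agent.PermCert Cfsg.Agent.G24J2

attribute [local irreducible] u0E u3E qE lineExp twelveExp pKeys okKeys g24Gens

/-- The first generator. -/
noncomputable def u0 : Equiv.Perm (Fin 416) := toPerm 9 416 u0E

/-- The second generator. -/
noncomputable def u3 : Equiv.Perm (Fin 416) := toPerm 9 416 u3E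

/-- A Sylow 5-subgroup. -/
noncomputable def P5 : Subgroup (Equiv.Perm (Fin 416)) := Subgroup.closure {u0, u3}

theorem toW_replicate {w n : ℕ} (e : Elt) : ∀ k : ℕ,
    toW w n (List.replicate k e) = toPerm w n e ^ k
  | 0 => by simp [toW]
  | k + 1 => by rw [List.replicate_succ, toW_cons, toW_replicate e k, pow_succ']

theorem toW_powW (es : List Elt) : ∀ k : ℕ, toW 9 416 (powW es k) = toW 9 416 es ^ k
  | 0 => by simp [powW, toW]
  | k + 1 => by
    rw [powW, List.replicate_succ, List.flatten_cons, toW_append, ← powW, toW_powW es k, pow_succ']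

theorem allIn_append {a b : List Elt} (ha : allIn a = true) (hb : allIn b = true) :
    allIn (a ++ b) = true := by
  simp only [allIn, List.all_append, Bool.and_eq_true] at *
  exact ⟨ha, hb⟩

theorem allIn_replicate {e : Elt} (he : allIn [e] = true) : ∀ k, allIn (List.replicate k e) = true
  | 0 => rfl
  | k + 1 => by
    rw [List.replicate_succ]
    exact allIn_append (a := [e]) he (allIn_replicate he k)

theorem allIn_powW {es : List Elt} (he : allIn es = true) : ∀ k, allIn (powW es k) = true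
  | 0 => rfl
  | k + 1 => by
    rw [powW, List.replicate_succ, List.flatten_cons]
    exact allIn_append he (allIn_powW he k)

theorem key_congr {es fs : List Elt} (he : ∀ e ∈ es, validElt 9 416 e = true)
    (hf : ∀ e ∈ fs, validElt 9 416 e = true) (h : toW 9 416 es = toW 9 416 fs) :
    keyW es = keyW fs := by
  have hb : ∀ b : ℕ, b < 416 → appE 9 es b = appE 9 fs b := fun b hb => by
    rw [appE_toW he ⟨b, hb⟩, appE_toW hf ⟨b, hb⟩, h]
  simp only [keyW, List.foldr_cons, List.foldr_nil]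
  rw [hb 0, hb 1, hb 2, hb 4, hb 5, hb 8] <;> norm_num

theorem same_spec {es fs : List Elt} (he : ∀ e ∈ es, validElt 9 416 e = true)
    (hf : ∀ e ∈ fs, validElt 9 416 e = true) (h : sameW es fs = true) :
    toW 9 416 es = toW 9 416 fs := by
  ext x
  rw [← appE_toW he, ← appE_toW hf]
  exact Nat.eq_of_beq_eq_true (allBelow_spec _ _ h x x.2)

theorem gen_facts : allIn [u0E] = true ∧ allIn [u3E] = true ∧ u0 ^ 5 = 1 ∧ u3 ^ 5 = 1 ∧
    Commute u0 u3 ∧ u0 0 = 0 ∧ u3 0 = 0 ∧ ∀ x : Fin 416, x ≠ 0 → u0 x ≠ x := by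
  have h := gen_ok
  simp only [genTest, Bool.and_eq_true, Nat.beq_eq] at h
  obtain ⟨⟨⟨⟨⟨⟨⟨⟨hu, -⟩, -⟩, h50⟩, h53⟩, hc⟩, f0⟩, f3⟩, hfix⟩ := h
  simp only [allIn, List.all_cons, List.all_nil, Bool.and_true, Bool.and_eq_true] at hu
  have i0 : allIn [u0E] = true := by simp [allIn, hu.1]
  have i3 : allIn [u3E] = true := by simp [allIn, hu.2]
  have v0 := (word_mem i0).1
  have v3 := (word_mem i3).1
  have hv : ∀ k, ∀ e ∈ powW [u0E] k, validElt 9 416 e = true := fun k =>
    (word_mem (allIn_powW i0 k)).1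
  have t0 : toW 9 416 [u0E] = u0 := by simp [u0]
  have t3 : toW 9 416 [u3E] = u3 := by simp [u3]
  refine ⟨i0, i3, ?_, ?_, ?_, ?_, ?_, fun x hx => ?_⟩
  · have := same_spec (hv 5) (by simp) h50
    rwa [toW_powW, t0] at this
  · have := same_spec (word_mem (allIn_powW i3 5)).1 (by simp) h53
    rwa [toW_powW, t3] at this
  · have := same_spec (word_mem (allIn_append (a := [u0E]) i0 i3)).1
      (word_mem (allIn_append (a := [u3E]) i3 i0)).1 hc
    simpa [Commute, SemiconjBy, toW, u0, u3] using this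
  · refine Fin.ext ?_
    rw [← t0, ← appE_toW v0]; exact f0
  · refine Fin.ext ?_
    rw [← t3, ← appE_toW v3]; exact f3
  · intro e
    have := allBelow_spec _ _ hfix x x.2
    simp only [Bool.or_eq_true, Nat.beq_eq, Bool.not_eq_true', Bool.eq_false_iff, ne_eq] at this
    rcases this with h' | h'
    · exact hx (Fin.ext h')
    · refine h' ?_
      rw [appE_toW v0, t0, e]

theorem pW_spec (a b : ℕ) : allIn (pW a b) = true ∧ toW 9 416 (pW a b) = u0 ^ a * u3 ^ b := by
  refine ⟨allIn_append (allIn_replicate gen_facts.1 a) (allIn_replicate gen_facts.2.1 b), ?_⟩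
  rw [pW, toW_append, toW_replicate, toW_replicate, u0, u3]

theorem pow_reduce (a b : ℕ) : u0 ^ a * u3 ^ b = u0 ^ (a % 5) * u3 ^ (b % 5) := by
  obtain ⟨-, -, h0, h3, -⟩ := gen_facts
  rw [← pow_eq_pow_mod a h0, ← pow_eq_pow_mod b h3]

theorem mem_P5 {x : Equiv.Perm (Fin 416)} :
    x ∈ P5 ↔ ∃ a < 5, ∃ b < 5, x = u0 ^ a * u3 ^ b := by
  obtain ⟨-, -, h0, h3, hc, -⟩ := gen_facts
  constructor
  · intro hx
    suffices h : ∃ a b : ℕ, x = u0 ^ a * u3 ^ b by
      obtain ⟨a, b, rfl⟩ := h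
      exact ⟨a % 5, Nat.mod_lt _ (by norm_num), b % 5, Nat.mod_lt _ (by norm_num), pow_reduce a b⟩
    induction hx using Subgroup.closure_induction with
    | mem y hy =>
      rcases hy with rfl | rfl
      · exact ⟨1, 0, by simp⟩
      · exact ⟨0, 1, by simp⟩
    | one => exact ⟨0, 0, by simp⟩
    | mul p q _ _ hp hq =>
      obtain ⟨a, b, rfl⟩ := hp
      obtain ⟨c, d, rfl⟩ := hq
      refine ⟨a + c, b + d, ?_⟩
      rw [((hc.pow_pow c b).symm).mul_mul_mul_comm, ← pow_add, ← pow_add]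
    | inv p _ hp =>
      obtain ⟨a, b, rfl⟩ := hp
      refine ⟨4 * a, 4 * b, inv_eq_of_mul_eq_one_right ?_⟩
      rw [((hc.pow_pow (4 * a) b).symm).mul_mul_mul_comm, ← pow_add, ← pow_add,
        show a + 4 * a = 5 * a by ring, show b + 4 * b = 5 * b by ring, pow_mul, pow_mul, h0, h3,
        one_pow, one_pow, one_mul]
  · rintro ⟨a, -, b, -, rfl⟩
    exact mul_mem (pow_mem (Subgroup.subset_closure (Set.mem_insert _ _)) a)
      (pow_mem (Subgroup.subset_closure (Set.mem_insert_of_mem u0 (Set.mem_singleton u3))) b)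

theorem P5_le : P5 ≤ M := fun x hx => by
  obtain ⟨a, -, b, -, rfl⟩ := mem_P5.1 hx
  exact (pW_spec a b).2 ▸ (word_mem (pW_spec a b).1).2

theorem P5_pow {x : Equiv.Perm (Fin 416)} (hx : x ∈ P5) : x ^ 5 = 1 := by
  obtain ⟨-, -, h0, h3, hc, -⟩ := gen_facts
  obtain ⟨a, -, b, -, rfl⟩ := mem_P5.1 hx
  rw [(hc.pow_pow a b).mul_pow, ← pow_mul, ← pow_mul, mul_comm a, mul_comm b, pow_mul, pow_mul, h0,
    h3, one_pow, one_pow, one_mul]

theorem P5_comm {x y : Equiv.Perm (Fin 416)} (hx : x ∈ P5) (hy : y ∈ P5) : Commute x y := by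
  obtain ⟨-, -, -, -, hc, -⟩ := gen_facts
  obtain ⟨a, -, b, -, rfl⟩ := mem_P5.1 hx
  obtain ⟨c, -, d, -, rfl⟩ := mem_P5.1 hy
  exact ((Commute.pow_pow_self _ _ _).mul_right (hc.pow_pow _ _)).mul_left
    (((hc.symm).pow_pow _ _).mul_right (Commute.pow_pow_self _ _ _))

theorem pKeys_spec {a b : ℕ} (ha : a < 5) (hb : b < 5) :
    pKeys[5 * a + b]? = some (keyW (pW a b)) := by
  have h := pKey_ok
  simp only [pKeyTest, Bool.and_eq_true, Nat.beq_eq] at h
  have hl : 5 * a + b < pKeys.length := by omega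
  have := Nat.eq_of_beq_eq_true (allBelow_spec _ _ (allBelow_spec _ _ h.1.1 a ha) b hb)
  rw [List.getD_eq_getElem _ _ hl] at this
  rw [List.getElem?_eq_getElem hl, this]

theorem exp_inj {a b c d : ℕ} (ha : a < 5) (hb : b < 5) (hc : c < 5) (hd : d < 5)
    (h : u0 ^ a * u3 ^ b = u0 ^ c * u3 ^ d) : a = c ∧ b = d := by
  have hk := pKey_ok
  simp only [pKeyTest, Bool.and_eq_true, Nat.beq_eq] at hk
  have hk1 := pKeys_spec ha hb
  have hk2 := pKeys_spec hc hd
  have e : keyW (pW a b) = keyW (pW c d) :=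
    key_congr (word_mem (pW_spec a b).1).1 (word_mem (pW_spec c d).1).1
      (by rw [(pW_spec a b).2, (pW_spec c d).2, h])
  rw [e, ← hk2] at hk1
  have := List.getElem?_inj (show 5 * a + b < pKeys.length by omega) (distinctKeys_spec _ hk.2) |>.1 hk1
  omega

theorem card_P5 : Nat.card P5 = 25 := by
  let f : Fin 5 × Fin 5 → P5 := fun p => ⟨_, mem_P5.2 ⟨p.1, p.1.2, p.2, p.2.2, rfl⟩⟩
  have hf : Function.Bijective f := by
    refine ⟨fun p q h => ?_, fun x => ?_⟩
    · obtain ⟨h1, h2⟩ := exp_inj p.1.2 p.2.2 q.1.2 q.2.2 (congrArg Subtype.val h)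
      exact Prod.ext (Fin.ext h1) (Fin.ext h2)
    · obtain ⟨a, ha, b, hb, e⟩ := mem_P5.1 x.2
      exact ⟨(⟨a, ha⟩, ⟨b, hb⟩), Subtype.ext e.symm⟩
  rw [← Nat.card_eq_of_bijective f hf]
  simp

/-- Membership read from the key. -/
theorem key_mem_P5 {es : List Elt} (he : ∀ e ∈ es, validElt 9 416 e = true) (hm : toW 9 416 es ∈ M) :
    keyIn pKeys (keyW es) = true ↔ toW 9 416 es ∈ P5 := by
  constructor
  · intro h
    simp only [keyIn, List.any_eq_true, Nat.beq_eq] at h
    obtain ⟨y, hy, rfl⟩ := h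
    obtain ⟨k, hk, e⟩ := List.getElem_of_mem hy
    have h' := pKey_ok
    simp only [pKeyTest, Bool.and_eq_true, Nat.beq_eq] at h'
    have h2 := pKeys_spec (a := k / 5) (b := k % 5) (by omega) (Nat.mod_lt _ (by norm_num))
    rw [Nat.div_add_mod, List.getElem?_eq_getElem hk, e, Option.some.injEq] at h2
    rw [eq_of_key he (word_mem (pW_spec _ _).1).1 hm (word_mem (pW_spec _ _).1).2 h2, (pW_spec _ _).2]
    exact mem_P5.2 ⟨k / 5, by omega, k % 5, Nat.mod_lt _ (by norm_num), rfl⟩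
  · intro h
    obtain ⟨a, ha, b, hb, e⟩ := mem_P5.1 h
    simp only [keyIn, List.any_eq_true, Nat.beq_eq]
    refine ⟨_, List.mem_of_getElem? (pKeys_spec ha hb), ?_⟩
    exact key_congr (word_mem (pW_spec a b).1).1 he (by rw [(pW_spec a b).2, e])

end Cfsg.Agent.SuzRec
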