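import Cfsg.Agent.Lib.SuzRec.FiveGroup
import Cfsg.Agent.Lib.SuzRec.FiveCheckN

/-! The normaliser of the subgroup of order 25 in the coded group. -/

set_option autoImplicit false
set_option maxRecDepth 20000

namespace Cfsg.Agent.SuzRec

open Cfsg.Agent.PermCert Cfsg.Agent.G24J2

attribute [local irreducible] u0E u3E qE lineExp twelveExp pKeys okKeys g24Gens g24Levels labs

theorem invW_mem {es : List Elt} (h : allIn es = true) :
    (∀ e ∈ invW es, validElt 9 416 e = true) ∧ toW 9 416 (invW es) ∈ M ∧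
      toW 9 416 (invW es) = (toW 9 416 es)⁻¹ := by
  obtain ⟨h1, h2⟩ := word_mem h
  obtain ⟨h3, h4⟩ := invW_toW h1
  exact ⟨h3, h4 ▸ inv_mem h2, h4⟩

theorem uW_zero : uW 0 = pW 1 0 := by decide +kernel

theorem uW_spec (i : ℕ) : allIn (uW i) = true ∧ toW 9 416 (uW i) ∈ P5 := by
  refine ⟨(pW_spec _ _).1, ?_⟩
  rw [uW, (pW_spec _ _).2, pow_reduce]
  exact mem_P5.2 ⟨_, Nat.mod_lt _ (by norm_num), _, Nat.mod_lt _ (by norm_num), rfl⟩

/-- The conjugate of the first generator by a normalising element is one of twelve. -/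
theorem image_u0 {g : Equiv.Perm (Fin 416)} (hg : g * u0 * g⁻¹ ∈ P5) :
    ∃ v ∈ twelveExp, g * u0 * g⁻¹ = u0 ^ v.1 * u3 ^ v.2 := by
  obtain ⟨-, -, -, -, -, h00, h30, hfix⟩ := gen_facts
  obtain ⟨a, ha, b, hb, e⟩ := mem_P5.1 hg
  have h := allBelow_spec _ _ (allBelow_spec _ _ twelve_ok a ha) b hb
  simp only [Bool.or_eq_true, Bool.and_eq_true, Nat.beq_eq, List.any_eq_true, List.mem_range] at h
  rcases h with (⟨rfl, rfl⟩ | ⟨v, hv, h1, h2⟩) | ⟨x, hx, hfx⟩
  · rw [pow_zero, pow_zero, mul_one, mul_inv_eq_one] at e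
    have e' : u0 = 1 := mul_left_cancel (e.trans (mul_one g).symm)
    exact absurd (by rw [e']; rfl) (hfix 1 (by decide))
  · exact ⟨v, hv, by rw [e, h1, h2]⟩
  · exfalso
    have hfix' : ∀ z, (u0 ^ a * u3 ^ b) z = z → g⁻¹ z = 0 := fun z hz => by
      by_contra hne
      refine hfix _ hne ?_
      rw [← e, Equiv.Perm.mul_apply, Equiv.Perm.mul_apply] at hz
      exact g.injective (hz.trans (g.apply_symm_apply z).symm)
    have hx0 := hfix' ⟨x + 1, by omega⟩ (Fin.ext (by
      rw [← (pW_spec a b).2, ← appE_toW (word_mem (pW_spec a b).1).1]; exact hfx))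
    have h0 := hfix' 0 (by
      rw [Equiv.Perm.mul_apply, Equiv.Perm.pow_apply_eq_self_of_apply_eq_self h30,
        Equiv.Perm.pow_apply_eq_self_of_apply_eq_self h00])
    have := congrArg Fin.val ((g⁻¹).injective (hx0.trans h0.symm))
    simp at this

/-- The centraliser of the first generator in the normaliser, from the search. -/
theorem cent_u0 {c : Equiv.Perm (Fin 416)} (hc : c ∈ M) (h0 : Commute c u0)
    (h3 : c * u3 * c⁻¹ ∈ P5) : ∃ es ∈ nList, (∀ e ∈ es, validElt 9 416 e = true) ∧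
      toW 9 416 es = c := by
  obtain ⟨hi, hm⟩ := uW_spec 0
  have hu : toW 9 416 (uW 0) = u0 := by rw [uW_zero, (pW_spec 1 0).2, pow_one, pow_zero, mul_one]
  obtain ⟨es, h1, h2, e⟩ := search_M (cs := [(uW 0, uW 0)]) (pts := [])
    (fun uv huv => by
      rw [List.mem_singleton] at huv; subst huv
      exact ⟨(word_mem hi).1, (word_mem hi).1⟩) (by simp) hc
    (fun uv huv => by
      rw [List.mem_singleton] at huv; subst huv
      rw [hu]; exact h0.eq) (by simp)
  refine ⟨es, List.mem_filter.2 ⟨h1, ?_⟩, h2, e⟩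
  obtain ⟨h4, h5⟩ := invW_toW h2
  have i3 := gen_facts.2.1
  refine (key_mem_P5 (fun x hx => ?_) ?_).2 ?_
  · rcases List.mem_append.1 hx with hx | hx
    · exact h2 x hx
    · rcases List.mem_cons.1 hx with rfl | hx
      · exact (word_mem i3).1 _ List.mem_cons_self
      · exact h4 x hx
  all_goals rw [toW_append, toW_cons, h5, e, ← mul_assoc]
  · exact P5_le h3
  · exact h3

/-- A subgroup normalising P has order at most 600. -/
theorem norm_bound {K : Subgroup (Equiv.Perm (Fin 416))} (hK : K ≤ M)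
    (hn : ∀ g ∈ K, ∀ x ∈ P5, g * x * g⁻¹ ∈ P5) : Nat.card K ≤ 600 := by
  classical
  let s : Finset (Equiv.Perm (Fin 416)) := (K : Set (Equiv.Perm (Fin 416))).toFinset
  have hs : ∀ {g}, g ∈ s ↔ g ∈ K := fun {g} => Set.mem_toFinset
  have hu0 : u0 ∈ P5 := Subgroup.subset_closure (Set.mem_insert _ _)
  have hu3 : u3 ∈ P5 := Subgroup.subset_closure (Set.mem_insert_of_mem u0 (Set.mem_singleton u3))
  have himg : (s.image fun g => g * u0 * g⁻¹).card ≤ 12 := by
    refine (Finset.card_le_card (t := (twelveExp.map fun v => u0 ^ v.1 * u3 ^ v.2).toFinset)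
      fun x hx => ?_).trans ((List.toFinset_card_le _).trans ?_)
    · obtain ⟨g, hg, rfl⟩ := Finset.mem_image.1 hx
      obtain ⟨v, hv, e⟩ := image_u0 (hn g (hs.1 hg) u0 hu0)
      exact List.mem_toFinset.2 (List.mem_map.2 ⟨v, hv, e.symm⟩)
    · rw [List.length_map]
      exact Nat.le_of_ble_eq_true (show Nat.ble twelveExp.length 12 = true by decide +kernel)
  have hN : nList.length ≤ 50 := by
    have h := first_ok
    simp only [nTest, Bool.and_eq_true, Nat.ble_eq] at h
    exact h.2.1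
  have := Finset.card_le_mul_card_image (s := s) (f := fun g => g * u0 * g⁻¹) 50 fun x hx => by
    obtain ⟨g0, hg0, rfl⟩ := Finset.mem_image.1 hx
    refine (Finset.card_le_card_of_injOn (t := (nList.map (toW 9 416)).toFinset) (fun g => g0⁻¹ * g)
      (fun g hg => ?_) (fun a _ b _ h => mul_left_cancel h)).trans
      ((List.toFinset_card_le _).trans (by rw [List.length_map]; exact hN))
    simp only [Finset.coe_filter, Set.mem_ofPred_eq] at hg
    have hm := K.mul_mem (K.inv_mem (hs.1 hg0)) (hs.1 hg.1)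
    have hc : Commute (g0⁻¹ * g) u0 := by
      show g0⁻¹ * g * u0 = u0 * (g0⁻¹ * g)
      rw [mul_assoc, mul_inv_eq_iff_eq_mul.1 hg.2]; group
    obtain ⟨es, h1, -, e⟩ := cent_u0 (hK hm) hc (hn _ hm u3 hu3)
    exact List.mem_toFinset.2 (List.mem_map.2 ⟨es, h1, e⟩)
  have hc : Nat.card K = s.card := by
    rw [← SetLike.coe_sort_coe, Nat.card_coe_set_eq, Set.ncard_eq_toFinset_card']
  omega

theorem foldl_conj {h : Equiv.Perm (Fin 416)} {a b c d : ℕ}
    (e0 : h * u0 * h⁻¹ = u0 ^ a * u3 ^ b) (e3 : h * u3 * h⁻¹ = u0 ^ c * u3 ^ d) :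
    ∀ (l : List ℕ) (v : ℕ × ℕ), h ^ l.length * (u0 ^ v.1 * u3 ^ v.2) * (h ^ l.length)⁻¹ =
      u0 ^ (l.foldl (fun w _ => matStep a b c d w) v).1 * u3 ^ (l.foldl (fun w _ => matStep a b c d w) v).2
  | [], v => by simp
  | x :: l, v => by
    obtain ⟨-, -, -, -, hc, -⟩ := gen_facts
    rw [List.foldl_cons, ← foldl_conj e0 e3 l (matStep a b c d v), List.length_cons, pow_succ,
      mul_inv_rev]
    have : h * (u0 ^ v.1 * u3 ^ v.2) * h⁻¹ =
        u0 ^ (matStep a b c d v).1 * u3 ^ (matStep a b c d v).2 := by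
      rw [show h * (u0 ^ v.1 * u3 ^ v.2) * h⁻¹ = (h * u0 ^ v.1 * h⁻¹) * (h * u3 ^ v.2 * h⁻¹) by group,
        ← conj_pow, ← conj_pow, e0, e3, (hc.pow_pow a b).mul_pow, (hc.pow_pow c d).mul_pow,
        ← pow_mul, ← pow_mul, ← pow_mul, ← pow_mul,
        ((hc.pow_pow _ _).symm).mul_mul_mul_comm, ← pow_add, ← pow_add, pow_reduce]
      rfl
    rw [← this]; group

/-- An element of order dividing seven normalising P is the identity. -/
theorem norm_seven {h : Equiv.Perm (Fin 416)} (hm : h ∈ M) (h7 : h ^ 7 = 1)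
    (hn : ∀ x ∈ P5, h * x * h⁻¹ ∈ P5) : h = 1 := by
  have hu0 : u0 ∈ P5 := Subgroup.subset_closure (Set.mem_insert _ _)
  have hu3 : u3 ∈ P5 := Subgroup.subset_closure (Set.mem_insert_of_mem u0 (Set.mem_singleton u3))
  obtain ⟨a, ha, b, hb, e0⟩ := mem_P5.1 (hn _ hu0)
  obtain ⟨c, hc, d, hd, e3⟩ := mem_P5.1 (hn _ hu3)
  have key : ∀ v : ℕ × ℕ, v.1 < 5 → v.2 < 5 → matPow7 a b c d v = v := fun v h1 h2 => by
    have := foldl_conj e0 e3 (List.range 7) v
    rw [List.length_range, h7, inv_one, one_mul, mul_one] at this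
    have hlt : (matPow7 a b c d v).1 < 5 ∧ (matPow7 a b c d v).2 < 5 :=
      ⟨Nat.mod_lt _ (by norm_num), Nat.mod_lt _ (by norm_num)⟩
    obtain ⟨e1, e2⟩ := exp_inj h1 h2 hlt.1 hlt.2 this
    exact (Prod.ext e1 e2).symm
  have hg := allBelow_spec _ _ (allBelow_spec _ _ (allBelow_spec _ _ (allBelow_spec _ _ gl25_ok a ha)
    b hb) c hc) d hd
  simp only [key (1, 0) (by norm_num) (by norm_num), key (0, 1) (by norm_num) (by norm_num), BEq.rfl,
    Bool.and_self, Bool.not_true, Bool.false_or, Bool.and_eq_true, Nat.beq_eq] at hg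
  obtain ⟨⟨⟨rfl, rfl⟩, rfl⟩, rfl⟩ := hg
  rw [pow_one, pow_zero, mul_one, mul_inv_eq_iff_eq_mul] at e0
  rw [pow_one, pow_zero, one_mul, mul_inv_eq_iff_eq_mul] at e3
  obtain ⟨es, h1, h2, e⟩ := cent_u0 hm e0 (by rw [e3, mul_inv_cancel_right]; exact hu3)
  have ht := first_ok
  simp only [nTest, Bool.and_eq_true, List.all_eq_true, Bool.or_eq_true, Bool.not_eq_true',
    Bool.eq_false_iff, ne_eq, Nat.beq_eq] at ht
  obtain ⟨h4, h5⟩ := invW_toW h2
  have i3 := gen_facts.2.1
  rcases ht.2.2 es h1 with (h' | h') | h'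
  · exfalso
    refine h' (key_congr (fun x hx => ?_) (by simp) ?_)
    · obtain ⟨l, hl, hx⟩ := List.mem_flatten.1 hx
      rw [(List.mem_replicate.1 hl).2] at hx
      exact h2 x hx
    · rw [toW_powW, e, h7]; rfl
  · exfalso
    refine h' (key_congr (fun x hx => ?_) (word_mem i3).1 ?_)
    · rcases List.mem_append.1 hx with hx | hx
      · exact h2 x hx
      · rcases List.mem_cons.1 hx with rfl | hx
        · exact (word_mem i3).1 _ List.mem_cons_self
        · exact h4 x hx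
    · rw [toW_append, toW_cons, h5, e, ← mul_assoc, show toPerm 9 416 u3E = u3 from rfl, e3,
        mul_inv_cancel_right]
      simp [u3]
  · have hP := (key_mem_P5 h2 (e ▸ hm)).1 h'
    rw [e] at hP
    have := pow_eq_pow_mod 7 (P5_pow hP)
    rw [h7, show 7 % 5 = 2 by norm_num] at this
    have h5' := P5_pow hP
    rw [show 5 = 2 * 2 + 1 by norm_num, pow_succ, pow_mul, ← this, one_pow, one_mul] at h5'
    exact h5'

end Cfsg.Agent.SuzRec
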