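import Cfsg.Agent.Lib.SuzRec.Model
import Mathlib.Combinatorics.Enumerative.DoubleCounting
import Mathlib.GroupTheory.GroupAction.Blocks

/-! A rank three group on 1782 points with point stabiliser the coded group is a standard model. -/

set_option autoImplicit false
set_option maxRecDepth 20000

namespace Cfsg.Agent.SuzRec

open Cfsg.Agent.PermCert Cfsg.Agent.G24J2
open scoped Pointwise

attribute [local irreducible] g24Gens g24Levels lineRows maskRows lineSet mE orbHLab

/-- Only one point is fixed by a point stabiliser. -/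
theorem Jp_fix {p q : Fin 416} (h : ∀ σ ∈ Jp p, σ q = q) : q = p := by
  obtain ⟨τ, hτ, hτp⟩ := M_trans 0 p
  suffices key : ∀ x : Fin 416, (∀ σ ∈ Jp 0, σ x = x) → x = 0 by
    have := key (τ⁻¹ q) fun σ hσ => by
      have hc : τ * σ * τ⁻¹ ∈ Jp p := ⟨show τ * σ * τ⁻¹ ∈ M from mul_mem (mul_mem hτ hσ.1) (inv_mem hτ), by
        show (τ * σ * τ⁻¹) p = p
        rw [← hτp, Equiv.Perm.mul_apply, Equiv.Perm.mul_apply, Equiv.Perm.inv_def,
          Equiv.symm_apply_apply, show σ 0 = 0 from hσ.2]⟩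
      have e := h _ hc
      rw [Equiv.Perm.mul_apply, Equiv.Perm.mul_apply] at e
      exact τ.injective (e.trans (τ.apply_symm_apply q).symm)
    rw [← hτp, ← this, Equiv.Perm.inv_def, Equiv.apply_symm_apply]
  intro x hx
  by_contra hne
  have hall : ∀ y : Fin 416, labOf orbHLab y = labOf orbHLab x → y = x := fun y hy => by
    obtain ⟨σ, hσ, e⟩ := (J_orbit x y).2 hy
    rw [← e, hx σ hσ]
  obtain ⟨h100, h315⟩ := D100_facts
  have hl := lab_lt x
  have h1 : labOf orbHLab x ≠ 0 := fun e => hne (hl.2 e)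
  have hle : ∀ k, labOf orbHLab x = k → {y : Fin 416 | labOf orbHLab y = k}.ncard ≤ 1 := fun k hk =>
    (Set.ncard_le_one).2 fun u hu v hv => (hall u (hu.trans hk.symm)).trans (hall v (hv.trans hk.symm)).symm
  rcases (show labOf orbHLab x = 1 ∨ labOf orbHLab x = 2 by omega) with e | e
  · have := hle 1 e
    rw [show {y : Fin 416 | labOf orbHLab y = 1} = D100 from rfl, h100] at this
    omega
  · have := hle 2 e
    omega

theorem Jp_inj {p q : Fin 416} (h : Jp p = Jp q) : p = q :=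
  Jp_fix fun σ hσ => (h ▸ hσ : σ ∈ Jp p).2

variable {G Ω : Type*} [Group G] [MulAction G Ω]

/-- The data of the recognition. -/
structure Setup (G Ω : Type*) [Group G] [MulAction G Ω] where
  finite : Finite G
  finiteΩ : Finite Ω
  faithful : FaithfulSMul G Ω
  trans : MulAction.IsPretransitive G Ω
  card : Nat.card Ω = 1782
  a : Ω
  φ : MulAction.stabilizer G a ≃* M
  b : Ω
  c : Ω
  hb : (MulAction.orbit (MulAction.stabilizer G a) b).ncard = 416
  hc : (MulAction.orbit (MulAction.stabilizer G a) c).ncard = 1365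

namespace Setup

variable (S : Setup G Ω)

/-- The point stabiliser. -/
abbrev Ga : Subgroup G := MulAction.stabilizer G S.a

/-- The point stabiliser on the 416 points. -/
def ψ : S.Ga →* Equiv.Perm (Fin 416) := M.subtype.comp S.φ.toMonoidHom

theorem ψ_mem (k : S.Ga) : S.ψ k ∈ M := (S.φ k).2

theorem ψ_surj {σ : Equiv.Perm (Fin 416)} (h : σ ∈ M) : ∃ k, S.ψ k = σ :=
  ⟨S.φ.symm ⟨σ, h⟩, by
    show ((S.φ (S.φ.symm ⟨σ, h⟩) : M) : Equiv.Perm (Fin 416)) = σ
    rw [MulEquiv.apply_symm_apply]⟩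

theorem ψ_inj : Function.Injective S.ψ := M.subtype_injective.comp S.φ.injective

/-- The image of the stabiliser of a further point. -/
def I (x : Ω) : Subgroup (Equiv.Perm (Fin 416)) := (MulAction.stabilizer S.Ga x).map S.ψ

theorem I_le (x : Ω) : S.I x ≤ M := by
  rintro _ ⟨k, -, rfl⟩
  exact S.ψ_mem k

theorem smul_a (k : S.Ga) : k • S.a = S.a := k.2

theorem card_Ga : Nat.card S.Ga = 251596800 := (Nat.card_congr S.φ.toEquiv).trans card_M

theorem card_I (x : Ω) : Nat.card (S.I x) * (MulAction.orbit S.Ga x).ncard = 251596800 := by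
  rw [I, ← Nat.card_congr ((MulAction.stabilizer S.Ga x).equivMapOfInjective S.ψ S.ψ_inj).toEquiv,
    ← MulAction.index_stabilizer, Subgroup.card_mul_index, S.card_Ga]

theorem orbit_a : MulAction.orbit S.Ga S.a = {S.a} :=
  Set.eq_singleton_iff_unique_mem.2 ⟨MulAction.mem_orbit_self _, by rintro _ ⟨k, rfl⟩; exact k.2⟩

/-- The three suborbits. -/
theorem cases_Ω (x : Ω) : x = S.a ∨ x ∈ MulAction.orbit S.Ga S.b ∨ x ∈ MulAction.orbit S.Ga S.c := by
  have := S.finiteΩ
  have hab : MulAction.orbit S.Ga S.b ≠ MulAction.orbit S.Ga S.c := fun e => by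
    have h := congrArg Set.ncard e; rw [S.hb, S.hc] at h; omega
  have ha : ∀ y, (MulAction.orbit S.Ga y).ncard ≠ 1 → S.a ∉ MulAction.orbit S.Ga y := fun y hy h => by
    rw [← MulAction.orbit_eq_iff, S.orbit_a] at h
    exact hy (by rw [← h, Set.ncard_singleton])
  have hd : Disjoint (MulAction.orbit S.Ga S.b) (MulAction.orbit S.Ga S.c) :=
    Set.disjoint_left.2 fun y h1 h2 =>
      hab ((MulAction.orbit_eq_iff.2 h1).symm.trans (MulAction.orbit_eq_iff.2 h2))
  have hall : insert S.a (MulAction.orbit S.Ga S.b ∪ MulAction.orbit S.Ga S.c) = Set.univ := by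
    refine Set.eq_of_subset_of_ncard_le (Set.subset_univ _) ?_
    rw [Set.ncard_univ, S.card, Set.ncard_insert_of_notMem (fun h => h.elim
      (ha _ (by rw [S.hb]; norm_num)) (ha _ (by rw [S.hc]; norm_num))), Set.ncard_union_eq hd, S.hb, S.hc]
  exact hall.ge (Set.mem_univ x)

theorem exists_e1 (x : MulAction.orbit S.Ga S.b) : ∃ p, Jp p = S.I x := by
  have h := S.card_I x
  rw [MulAction.orbit_eq_iff.2 x.2, S.hb] at h
  obtain ⟨p, hp⟩ := exists_Jp (S.I_le _) (by omega : Nat.card (S.I (x : Ω)) = 604800)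
  exact ⟨p, hp.symm⟩

theorem e1_smul (k : S.Ga) (x : MulAction.orbit S.Ga S.b) {p : Fin 416} (hp : Jp p = S.I x)
    {q : Fin 416} (hq : Jp q = S.I ((k • x : MulAction.orbit S.Ga S.b) : Ω)) : q = S.ψ k p := by
  refine (Jp_fix fun σ hσ => ?_).symm
  rw [hq] at hσ
  obtain ⟨l, hl, rfl⟩ := hσ
  have hl' : k⁻¹ * l * k ∈ MulAction.stabilizer S.Ga (x : Ω) := by
    show (k⁻¹ * l * k) • (x : Ω) = x
    rw [mul_smul, mul_smul, show l • k • (x : Ω) = k • (x : Ω) from hl, inv_smul_smul]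
  have h : S.ψ (k⁻¹ * l * k) p = p := (hp ▸ ⟨_, hl', rfl⟩ : S.ψ (k⁻¹ * l * k) ∈ Jp p).2
  rw [map_mul, map_mul, map_inv, Equiv.Perm.mul_apply, Equiv.Perm.mul_apply, Equiv.Perm.inv_def,
    Equiv.symm_apply_eq] at h
  exact h

/-- The points adjacent to the base point, numbered. -/
theorem exists_P : ∃ P : Fin 416 → Ω, Function.Injective P ∧
    Set.range P = MulAction.orbit S.Ga S.b ∧ ∀ (k : S.Ga) p, k • P p = P (S.ψ k p) := by
  have := S.finiteΩ
  choose e he using S.exists_e1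
  have heq : ∀ k x, e (k • x) = S.ψ k (e x) := fun k x => S.e1_smul k x (he x) (he _)
  have hsur : Function.Surjective e := fun q => by
    obtain ⟨σ, hσ, h⟩ := M_trans (e ⟨S.b, MulAction.mem_orbit_self _⟩) q
    obtain ⟨k, rfl⟩ := S.ψ_surj hσ
    exact ⟨k • ⟨S.b, MulAction.mem_orbit_self _⟩, by rw [heq, h]⟩
  have hbij : Function.Bijective e := hsur.bijective_of_nat_card_le (by
    rw [Nat.card_fin, Nat.card_coe_set_eq, S.hb])
  let E := Equiv.ofBijective e hbij
  refine ⟨fun p => (E.symm p : Ω), fun p q h => E.symm.injective (Subtype.ext h), ?_, fun k p => ?_⟩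
  · ext x
    exact ⟨fun ⟨p, hp⟩ => hp ▸ (E.symm p).2,
      fun hx => ⟨e ⟨x, hx⟩, congrArg Subtype.val (E.symm_apply_apply ⟨x, hx⟩)⟩⟩
  · have h : E.symm (S.ψ k p) = k • E.symm p := by
      rw [Equiv.symm_apply_eq]
      show _ = e (k • E.symm p)
      rw [heq, show e (E.symm p) = p from E.apply_symm_apply p]
    show k • (E.symm p : Ω) = (E.symm (S.ψ k p) : Ω)
    rw [h]; rfl

/-- The numbering of the suborbit of size 416. -/
noncomputable def P : Fin 416 → Ω := S.exists_P.choose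

theorem P_inj : Function.Injective S.P := S.exists_P.choose_spec.1

theorem P_range : Set.range S.P = MulAction.orbit S.Ga S.b := S.exists_P.choose_spec.2.1

theorem P_smul (k : S.Ga) (p : Fin 416) : k • S.P p = S.P (S.ψ k p) := S.exists_P.choose_spec.2.2 k p

theorem P_ne (p : Fin 416) : S.P p ≠ S.a := fun e => by
  have h : S.P p ∈ MulAction.orbit S.Ga S.b := S.P_range ▸ Set.mem_range_self p
  rw [e, ← MulAction.orbit_eq_iff, S.orbit_a] at h
  have := congrArg Set.ncard h
  rw [S.hb, Set.ncard_singleton] at this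
  omega

/-- Adjacency. -/
def Adj (x y : Ω) : Prop := ∃ g : G, g • S.a = x ∧ g • S.P 0 = y

theorem adj_smul {x y : Ω} (g : G) : S.Adj (g • x) (g • y) ↔ S.Adj x y := by
  constructor
  · rintro ⟨h, h1, h2⟩
    exact ⟨g⁻¹ * h, by rw [mul_smul, h1, inv_smul_smul], by rw [mul_smul, h2, inv_smul_smul]⟩
  · rintro ⟨h, h1, h2⟩
    exact ⟨g * h, by rw [mul_smul, h1], by rw [mul_smul, h2]⟩

theorem adj_smul' {x y : Ω} (k : S.Ga) : S.Adj (k • x) (k • y) ↔ S.Adj x y := S.adj_smul (k : G)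

theorem adj_a {y : Ω} : S.Adj S.a y ↔ ∃ p, S.P p = y := by
  constructor
  · rintro ⟨g, h1, rfl⟩
    exact ⟨S.ψ ⟨g, h1⟩ 0, (S.P_smul ⟨g, h1⟩ 0).symm⟩
  · rintro ⟨p, rfl⟩
    obtain ⟨σ, hσ, e⟩ := M_trans 0 p
    obtain ⟨k, rfl⟩ := S.ψ_surj hσ
    exact ⟨k, k.2, (S.P_smul k 0).trans (congrArg S.P e)⟩

theorem adj_irrefl (x : Ω) : ¬ S.Adj x x := fun ⟨g, h1, h2⟩ =>
  S.P_ne 0 (smul_left_cancel g (h2.trans h1.symm))

/-- The orbital is self-paired. -/
theorem adj_symm {x y : Ω} (h : S.Adj x y) : S.Adj y x := by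
  have := S.trans
  have := S.finite
  have := S.finiteΩ
  obtain ⟨g0, hg0⟩ := MulAction.exists_smul_eq G (S.P 0) S.a
  -- the in-neighbours of the base point
  set y0 := g0 • S.a with hy0
  have hcard : (MulAction.orbit S.Ga y0).ncard = 416 := by
    have h1 := Subgroup.card_mul_index (MulAction.stabilizer S.Ga y0)
    rw [MulAction.index_stabilizer, S.card_Ga] at h1
    have h2 : Nat.card (MulAction.stabilizer S.Ga y0) = Nat.card (MulAction.stabilizer S.Ga (S.P 0)) := by
      refine Nat.card_congr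
        { toFun := fun k => ⟨⟨g0⁻¹ * ((k : S.Ga) : G) * g0, ?_⟩, ?_⟩
          invFun := fun k => ⟨⟨g0 * ((k : S.Ga) : G) * g0⁻¹, ?_⟩, ?_⟩
          left_inv := fun k => Subtype.ext (Subtype.ext (by simp only; group))
          right_inv := fun k => Subtype.ext (Subtype.ext (by simp only; group)) }
      · show (g0⁻¹ * ((k : S.Ga) : G) * g0) • S.a = S.a
        rw [mul_smul, mul_smul, ← hy0, show ((k : S.Ga) : G) • y0 = y0 from k.2, hy0, inv_smul_smul]
      · show (g0⁻¹ * ((k : S.Ga) : G) * g0) • S.P 0 = S.P 0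
        rw [mul_smul, mul_smul, hg0, show ((k : S.Ga) : G) • S.a = S.a from (k : S.Ga).2, ← hg0,
          inv_smul_smul]
      · show (g0 * ((k : S.Ga) : G) * g0⁻¹) • S.a = S.a
        conv_lhs => rw [← hg0, mul_smul, mul_smul, inv_smul_smul,
          show ((k : S.Ga) : G) • S.P 0 = S.P 0 from k.2, hg0]
      · show (g0 * ((k : S.Ga) : G) * g0⁻¹) • y0 = y0
        rw [hy0, mul_smul, mul_smul, inv_smul_smul, show ((k : S.Ga) : G) • S.a = S.a from (k : S.Ga).2]
    have h3 := Subgroup.card_mul_index (MulAction.stabilizer S.Ga (S.P 0))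
    rw [MulAction.index_stabilizer, S.card_Ga, MulAction.orbit_eq_iff.2
      (show S.P 0 ∈ MulAction.orbit S.Ga S.b from S.P_range ▸ Set.mem_range_self 0), S.hb, ← h2] at h3
    exact Nat.eq_of_mul_eq_mul_left Nat.card_pos (h1.trans h3.symm)
  have hy : y0 ∈ Set.range S.P := by
    rw [S.P_range]
    rcases S.cases_Ω y0 with e | e | e
    · rw [e, S.orbit_a, Set.ncard_singleton] at hcard; omega
    · exact e
    · rw [MulAction.orbit_eq_iff.2 e, S.hc] at hcard; omega
  obtain ⟨g, rfl, rfl⟩ := h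
  rw [S.adj_smul]
  -- the base pair reversed
  obtain ⟨p, hp⟩ := hy
  obtain ⟨σ, hσ, e⟩ := M_trans p 0
  obtain ⟨k, rfl⟩ := S.ψ_surj hσ
  have h2 : S.Adj y0 S.a := ⟨g0, rfl, hg0⟩
  rw [← S.adj_smul' k, S.smul_a, ← hp, S.P_smul, e] at h2
  exact h2

theorem exists_swap : ∃ t : G, t • S.a = S.P 0 ∧ t • S.P 0 = S.a :=
  S.adj_symm ⟨1, one_smul _ _, one_smul _ _⟩

/-- The neighbours in the suborbit of size 416. -/
def Λ (x : Ω) : Set (Fin 416) := {q | S.Adj x (S.P q)}

theorem Λ_smul (k : S.Ga) (x : Ω) : S.Λ (k • x) = S.ψ k • S.Λ x := by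
  ext q
  rw [Set.mem_smul_set_iff_inv_smul_mem]
  show S.Adj (k • x) (S.P q) ↔ S.Adj x (S.P ((S.ψ k)⁻¹ q))
  rw [← S.adj_smul' k (x := x), S.P_smul, Equiv.Perm.inv_def, Equiv.apply_symm_apply]

theorem Λ_card_P (p : Fin 416) : (S.Λ (S.P p)).ncard = (S.Λ (S.P 0)).ncard := by
  obtain ⟨σ, hσ, rfl⟩ := M_trans 0 p
  obtain ⟨k, rfl⟩ := S.ψ_surj hσ
  rw [← S.P_smul, S.Λ_smul, Set.ncard_smul_set]

theorem nbr_card (x : Ω) : {y | S.Adj x y}.ncard = 416 := by
  have := S.trans
  obtain ⟨g, rfl⟩ := MulAction.exists_smul_eq G S.a x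
  have e : {y | S.Adj (g • S.a) y} = g • Set.range S.P := by
    ext y
    rw [Set.mem_smul_set_iff_inv_smul_mem, Set.mem_range, ← S.adj_a, ← S.adj_smul g, smul_inv_smul]
    rfl
  rw [e, Set.ncard_smul_set, Set.ncard_range_of_injective S.P_inj, Nat.card_fin]

/-- **The neighbours of a neighbour.** -/
theorem Λ_zero : S.Λ (S.P 0) = D100 ∧ ∀ y ∈ MulAction.orbit S.Ga S.c, (S.Λ y).ncard = 96 := by
  classical
  have := S.finiteΩ
  have : Fintype Ω := Fintype.ofFinite Ω
  have hinv : ∀ σ ∈ Jp 0, σ • S.Λ (S.P 0) = S.Λ (S.P 0) := fun σ hσ => by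
    obtain ⟨k, rfl⟩ := S.ψ_surj hσ.1
    rw [← S.Λ_smul, S.P_smul, show S.ψ k 0 = 0 from hσ.2]
  have hmem : ∀ p q : Fin 416, labOf orbHLab p = labOf orbHLab q → p ∈ S.Λ (S.P 0) → q ∈ S.Λ (S.P 0) := by
    intro p q e hp
    obtain ⟨σ, hσ, rfl⟩ := (J_orbit p q).2 e.symm
    rw [← hinv σ hσ]
    exact Set.smul_mem_smul_set hp
  have h0 : (0 : Fin 416) ∉ S.Λ (S.P 0) := S.adj_irrefl _
  have l4 : labOf orbHLab ((4 : Fin 416) : ℕ) = 1 := mE_facts.2.2.2.2.2.1
  have l1 : labOf orbHLab ((1 : Fin 416) : ℕ) = 2 := by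
    have h := (root_spec orbH_ok (k := 2) (by rw [roots_ok.2.1]; norm_num)).2
    rw [mE_facts.2.2.2.2.2.2.2.2] at h
    exact h
  have hΛ : S.Λ (S.P 0) = {q : Fin 416 | (labOf orbHLab q = 1 ∧ (4 : Fin 416) ∈ S.Λ (S.P 0)) ∨
      (labOf orbHLab q = 2 ∧ (1 : Fin 416) ∈ S.Λ (S.P 0))} := by
    ext q
    constructor
    · intro hq
      have hl := lab_lt q
      rcases (show labOf orbHLab q = 0 ∨ labOf orbHLab q = 1 ∨ labOf orbHLab q = 2 by omega) with e | e | e
      · exact absurd (hl.2 e ▸ hq) h0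
      · exact Or.inl ⟨e, hmem q 4 (e.trans l4.symm) hq⟩
      · exact Or.inr ⟨e, hmem q 1 (e.trans l1.symm) hq⟩
    · rintro (⟨e, h⟩ | ⟨e, h⟩)
      · exact hmem 4 q (l4.trans e.symm) h
      · exact hmem 1 q (l1.trans e.symm) h
  obtain ⟨h100, h315⟩ := D100_facts
  -- double counting
  let T : Finset Ω := (MulAction.orbit S.Ga S.c).toFinset
  let μ := (S.Λ S.c).ncard
  have hμ : ∀ y ∈ MulAction.orbit S.Ga S.c, (S.Λ y).ncard = μ := by
    rintro _ ⟨k, rfl⟩
    show (S.Λ (k • S.c)).ncard = _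
    rw [S.Λ_smul, Set.ncard_smul_set]
  have hT : T.card = 1365 := by
    rw [← Set.ncard_eq_toFinset_card', S.hc]
  have hsplit : ∀ p, ((T.filter fun y => S.Adj (S.P p) y).card) + (S.Λ (S.P 0)).ncard + 1 = 416 := by
    intro p
    have e : {y | S.Adj (S.P p) y} =
        insert S.a ((S.P '' S.Λ (S.P p)) ∪ ↑(T.filter fun y => S.Adj (S.P p) y)) := by
      ext y
      simp only [Set.mem_ofPred_eq, Set.mem_insert_iff, Set.mem_union, Set.mem_image, Finset.coe_filter,
        T, Set.mem_toFinset]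
      constructor
      · intro h
        rcases S.cases_Ω y with e | e | e
        · exact Or.inl e
        · rw [← S.P_range] at e
          obtain ⟨q, rfl⟩ := e
          exact Or.inr (Or.inl ⟨q, h, rfl⟩)
        · exact Or.inr (Or.inr ⟨e, h⟩)
      · rintro (rfl | ⟨q, hq, rfl⟩ | ⟨-, h⟩)
        · exact S.adj_symm (S.adj_a.2 ⟨p, rfl⟩)
        · exact hq
        · exact h
    have hc := S.nbr_card (S.P p)
    have hac : S.a ∉ MulAction.orbit S.Ga S.c := fun h => by
      rw [← MulAction.orbit_eq_iff, S.orbit_a] at h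
      have := congrArg Set.ncard h
      rw [S.hc, Set.ncard_singleton] at this
      omega
    rw [e, Set.ncard_insert_of_notMem, Set.ncard_union_eq, Set.ncard_image_of_injective _ S.P_inj,
      S.Λ_card_P, Set.ncard_coe_finset] at hc
    · omega
    · rw [Set.disjoint_left]
      rintro _ ⟨q, -, rfl⟩ hy
      simp only [Finset.coe_filter, T, Set.mem_toFinset, Set.mem_ofPred_eq] at hy
      have h1 : S.P q ∈ MulAction.orbit S.Ga S.b := S.P_range ▸ Set.mem_range_self q
      have := congrArg Set.ncard ((MulAction.orbit_eq_iff.2 h1).symm.trans (MulAction.orbit_eq_iff.2 hy.1))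
      rw [S.hb, S.hc] at this
      omega
    · rintro (⟨q, -, h⟩ | h)
      · exact S.P_ne q h
      · simp only [Finset.coe_filter, T, Set.mem_toFinset, Set.mem_ofPred_eq] at h
        exact hac h.1
  have hdc := Finset.card_mul_eq_card_mul (fun p y => S.Adj (S.P p) y) (s := Finset.univ) (t := T)
    (m := 415 - (S.Λ (S.P 0)).ncard) (n := μ)
    (fun p _ => by
      have := hsplit p
      show (T.filter fun y => S.Adj (S.P p) y).card = _
      omega)
    (fun y hy => by
      rw [← hμ y (Set.mem_toFinset.1 hy), ← Set.ncard_coe_finset]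
      congr 1
      ext q
      simp only [Finset.bipartiteBelow, Finset.coe_filter, Finset.mem_univ, true_and]
      exact ⟨fun h => S.adj_symm h, fun h => S.adj_symm h⟩)
  rw [Finset.card_univ, Fintype.card_fin, hT] at hdc
  have hdisj : Disjoint D100 {q : Fin 416 | labOf orbHLab q = 2} := by
    refine Set.disjoint_left.2 fun q (h1 : labOf orbHLab q = 1) (h2 : labOf orbHLab q = 2) => ?_
    omega
  by_cases h4 : (4 : Fin 416) ∈ S.Λ (S.P 0) <;> by_cases h1 : (1 : Fin 416) ∈ S.Λ (S.P 0)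
  · -- a block
    exfalso
    have hall : (S.Λ (S.P 0)).ncard = 415 := by
      rw [hΛ, show {q : Fin 416 | (labOf orbHLab q = 1 ∧ (4 : Fin 416) ∈ S.Λ (S.P 0)) ∨
        (labOf orbHLab q = 2 ∧ (1 : Fin 416) ∈ S.Λ (S.P 0))} = D100 ∪ {q | labOf orbHLab q = 2} from
          Set.ext fun q => by simp [h4, h1, D100],
        Set.ncard_union_eq hdisj, h100, h315]
    let B : Set Ω := insert S.a (Set.range S.P)
    have hf : ∀ y ∈ B, insert y {z | S.Adj y z} = B := by
      rintro y (rfl | ⟨p, rfl⟩)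
      · refine congrArg (insert S.a) (Set.ext fun z => ?_)
        exact S.adj_a
      · have hsub : insert (S.P p) {z | S.Adj (S.P p) z} ⊆ B := by
          rintro z (rfl | hz)
          · exact Or.inr ⟨p, rfl⟩
          · rcases S.cases_Ω z with e | e | e
            · exact Or.inl e
            · exact Or.inr (by rwa [S.P_range])
            · exfalso
              have hs := hsplit p
              rw [hall] at hs
              have : z ∈ T.filter fun y => S.Adj (S.P p) y :=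
                Finset.mem_filter.2 ⟨Set.mem_toFinset.2 e, hz⟩
              have := Finset.card_pos.2 ⟨z, this⟩
              omega
        refine Set.eq_of_subset_of_ncard_le hsub ?_
        rw [Set.ncard_insert_of_notMem (s := {z | S.Adj (S.P p) z}) (S.adj_irrefl _), S.nbr_card]
        refine (Set.ncard_insert_le _ _).trans ?_
        rw [Set.ncard_range_of_injective S.P_inj, Nat.card_fin]
    have hB : MulAction.IsBlock G B := MulAction.isBlock_iff_smul_eq_of_mem.2 fun g y hy hgy => by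
      have e := hf (g • y) hgy
      conv_lhs => rw [← hf y hy]
      rw [← e, Set.smul_set_insert]
      refine congrArg (insert (g • y)) (Set.ext fun z => ?_)
      rw [Set.mem_smul_set_iff_inv_smul_mem]
      show S.Adj y (g⁻¹ • z) ↔ S.Adj (g • y) z
      rw [← S.adj_smul g, smul_inv_smul]
    have := S.trans
    have h417 : B.ncard = 417 := by
      rw [Set.ncard_insert_of_notMem (s := Set.range S.P) (fun ⟨p, hp⟩ => S.P_ne p hp),
        Set.ncard_range_of_injective S.P_inj, Nat.card_fin]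
    have := hB.ncard_dvd_card ⟨S.a, Or.inl rfl⟩
    rw [h417, S.card] at this
    norm_num at this
  · have hcard : S.Λ (S.P 0) = D100 := by
      rw [hΛ]; ext q; simp [h4, h1, D100]
    rw [hcard, h100] at hdc
    exact ⟨hcard, fun y hy => by rw [hμ y hy]; omega⟩
  · exfalso
    have hcard : S.Λ (S.P 0) = {q : Fin 416 | labOf orbHLab q = 2} := by
      rw [hΛ]; ext q; simp [h4, h1]
    rw [hcard, h315] at hdc
    omega
  · exfalso
    have hcard : S.Λ (S.P 0) = ∅ := by
      rw [hΛ]; ext q; simp [h4, h1]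
    rw [hcard, Set.ncard_empty] at hdc
    omega

theorem adj_PP (p q : Fin 416) : S.Adj (S.P p) (S.P q) ↔ Madj p q := by
  obtain ⟨σ, hσ, hp⟩ := M_trans p 0
  obtain ⟨k, rfl⟩ := S.ψ_surj hσ
  rw [← S.adj_smul' k, S.P_smul, S.P_smul, hp]
  show S.ψ k q ∈ S.Λ (S.P 0) ↔ _
  rw [S.Λ_zero.1, ← Madj_zero]
  constructor
  · intro h
    have := Madj_smul (inv_mem (S.ψ_mem k)) h
    rwa [← hp, Equiv.Perm.inv_def, Equiv.symm_apply_apply, Equiv.symm_apply_apply] at this
  · intro h
    have := Madj_smul (S.ψ_mem k) h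
    rwa [hp] at this

theorem exists_e2 (y : MulAction.orbit S.Ga S.c) :
    ∃ j : Fin 1365, S.Λ (y : Ω) = lineSet j := by
  have h := S.card_I y
  rw [MulAction.orbit_eq_iff.2 y.2, S.hc] at h
  obtain ⟨j, hj, hS, -⟩ := exists_line (S.I_le (y : Ω)) (by omega : Nat.card (S.I (y : Ω)) = 184320)
    (S.Λ_zero.2 y y.2) (by
      rintro _ ⟨k, hk, rfl⟩
      rw [← S.Λ_smul, show k • (y : Ω) = y from hk])
  exact ⟨⟨j, hj⟩, hS⟩

/-- The points at distance two, numbered. -/
theorem exists_L : ∃ L : Fin 1365 → Ω, Function.Injective L ∧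
    Set.range L = MulAction.orbit S.Ga S.c ∧ ∀ j, S.Λ (L j) = lineSet j := by
  have := S.finiteΩ
  choose e he using S.exists_e2
  have hsur : Function.Surjective e := fun j => by
    obtain ⟨σ, hσ, h⟩ := M_lines (e ⟨S.c, MulAction.mem_orbit_self _⟩).2 j.2
    obtain ⟨k, rfl⟩ := S.ψ_surj hσ
    refine ⟨k • ⟨S.c, MulAction.mem_orbit_self _⟩, Fin.ext (lineSet_inj (Fin.is_lt _) j.2 ?_)⟩
    rw [← he, ← h, ← he ⟨S.c, MulAction.mem_orbit_self _⟩, ← S.Λ_smul]
    rfl
  have hbij : Function.Bijective e := hsur.bijective_of_nat_card_le (by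
    rw [Nat.card_fin, Nat.card_coe_set_eq, S.hc])
  let E := Equiv.ofBijective e hbij
  refine ⟨fun j => (E.symm j : Ω), fun p q h => E.symm.injective (Subtype.ext h), ?_, fun j => ?_⟩
  · ext x
    exact ⟨fun ⟨p, hp⟩ => hp ▸ (E.symm p).2,
      fun hx => ⟨e ⟨x, hx⟩, congrArg Subtype.val (E.symm_apply_apply ⟨x, hx⟩)⟩⟩
  · show S.Λ (E.symm j : Ω) = lineSet j
    rw [he]
    exact congrArg (fun i : Fin 1365 => lineSet i) (E.apply_symm_apply j)

/-- The numbering of the suborbit of size 1365. -/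
noncomputable def L : Fin 1365 → Ω := S.exists_L.choose

theorem L_inj : Function.Injective S.L := S.exists_L.choose_spec.1

theorem L_range : Set.range S.L = MulAction.orbit S.Ga S.c := S.exists_L.choose_spec.2.1

theorem L_spec (j : Fin 1365) : S.Λ (S.L j) = lineSet j := S.exists_L.choose_spec.2.2 j

theorem L_smul (k : S.Ga) (j : Fin 1365) : k • S.L j = S.L (lineImg ⟨S.ψ k, S.ψ_mem k⟩ j) := by
  have h : k • S.L j ∈ Set.range S.L := by
    rw [S.L_range]
    obtain ⟨l, hl⟩ : S.L j ∈ MulAction.orbit S.Ga S.c := S.L_range ▸ Set.mem_range_self j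
    exact ⟨k * l, by rw [← hl]; exact mul_smul _ _ _⟩
  obtain ⟨i, hi⟩ := h
  rw [← hi]
  refine congrArg S.L (lineImg_eq ?_).symm
  rw [← S.L_spec i, hi, S.Λ_smul, S.L_spec]

theorem L_ne (j : Fin 1365) : S.L j ≠ S.a := fun e => by
  have h : S.L j ∈ MulAction.orbit S.Ga S.c := S.L_range ▸ Set.mem_range_self j
  rw [e, ← MulAction.orbit_eq_iff, S.orbit_a] at h
  have := congrArg Set.ncard h
  rw [S.hc, Set.ncard_singleton] at this
  omega

theorem P_ne_L (p : Fin 416) (j : Fin 1365) : S.P p ≠ S.L j := fun e => by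
  have h1 : S.P p ∈ MulAction.orbit S.Ga S.b := S.P_range ▸ Set.mem_range_self p
  have h2 : S.P p ∈ MulAction.orbit S.Ga S.c := e ▸ S.L_range ▸ Set.mem_range_self j
  have := congrArg Set.ncard ((MulAction.orbit_eq_iff.2 h1).symm.trans (MulAction.orbit_eq_iff.2 h2))
  rw [S.hb, S.hc] at this
  omega

theorem not_adj_aL (j : Fin 1365) : ¬ S.Adj S.a (S.L j) := fun h => by
  obtain ⟨p, hp⟩ := S.adj_a.1 h
  exact S.P_ne_L p j hp

theorem adj_PL (p : Fin 416) (j : Fin 1365) : S.Adj (S.P p) (S.L j) ↔ p ∈ lineSet j := by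
  rw [← S.L_spec]
  exact ⟨S.adj_symm, S.adj_symm⟩

theorem adj_LL (i j : Fin 1365) : S.Adj (S.L i) (S.L j) ↔ (lineSet i ∩ lineSet j).ncard = 24 := by
  have := S.finiteΩ
  have key : ∀ j : Fin 1365, S.Adj (S.L 0) (S.L j) ↔ (lineSet 0 ∩ lineSet j).ncard = 24 := by
    let T : Set (Fin 1365) := {j | S.Adj (S.L 0) (S.L j)}
    have hT : T.ncard = 320 := by
      have e : {y | S.Adj (S.L 0) y} = (S.P '' S.Λ (S.L 0)) ∪ S.L '' T := by
        ext y
        constructor
        · intro h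
          rcases S.cases_Ω y with rfl | e | e
          · exact absurd (S.adj_symm h) (S.not_adj_aL 0)
          · rw [← S.P_range] at e
            obtain ⟨q, rfl⟩ := e
            exact Or.inl ⟨q, h, rfl⟩
          · rw [← S.L_range] at e
            obtain ⟨q, rfl⟩ := e
            exact Or.inr ⟨q, h, rfl⟩
        · rintro (⟨q, h, rfl⟩ | ⟨q, h, rfl⟩) <;> exact h
      have h := S.nbr_card (S.L 0)
      rw [e, Set.ncard_union_eq, Set.ncard_image_of_injective _ S.P_inj,
        Set.ncard_image_of_injective _ S.L_inj, S.L_spec, lineSet_ncard (Fin.is_lt _)] at h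
      · omega
      · refine Set.disjoint_left.2 ?_
        rintro _ ⟨q, -, rfl⟩ ⟨r, -, e⟩
        exact S.P_ne_L q r e.symm
    have hT' := nbr_class hT (S.adj_irrefl _) fun σ hσ u v hu huv => by
      obtain ⟨k, rfl⟩ := S.ψ_surj hσ.1
      show S.Adj (S.L 0) (S.L v)
      have h0 : k • S.L 0 = S.L 0 := by
        rw [S.L_smul, lineImg_eq (σ := ⟨S.ψ k, S.ψ_mem k⟩) (j := 0) (k := 0) hσ.2]
      rw [← h0, show S.L v = k • S.L u by
        rw [S.L_smul, lineImg_eq (σ := ⟨S.ψ k, S.ψ_mem k⟩) (j := u) (k := v) huv], S.adj_smul']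
      exact hu
    exact fun j => Set.ext_iff.1 hT' j
  obtain ⟨σ, hσ, e⟩ := M_lines i.2 (show 0 < 1365 by norm_num)
  obtain ⟨k, rfl⟩ := S.ψ_surj hσ
  rw [← S.adj_smul' k, S.L_smul, S.L_smul,
    lineImg_eq (σ := ⟨S.ψ k, S.ψ_mem k⟩) (j := i) (k := 0) e, key]
  conv_rhs => rw [← Set.ncard_smul_set (S.ψ k), Set.smul_set_inter, e,
    lineImg_spec ⟨S.ψ k, S.ψ_mem k⟩ j]

/-- The numbering of all points. -/
noncomputable def E : V0 → Ω
  | none => S.a
  | some (Sum.inl p) => S.P p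
  | some (Sum.inr j) => S.L j

theorem E_bij : Function.Bijective S.E := by
  refine ⟨fun u v h => ?_, fun y => ?_⟩
  · rcases u with _ | p | i <;> rcases v with _ | q | j
    · rfl
    · exact absurd h.symm (S.P_ne q)
    · exact absurd h.symm (S.L_ne j)
    · exact absurd h (S.P_ne p)
    · exact congrArg vP (S.P_inj h)
    · exact absurd h (S.P_ne_L p j)
    · exact absurd h (S.L_ne i)
    · exact absurd h.symm (S.P_ne_L q i)
    · exact congrArg vL (S.L_inj h)
  · rcases S.cases_Ω y with rfl | e | e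
    · exact ⟨none, rfl⟩
    · rw [← S.P_range] at e
      obtain ⟨p, rfl⟩ := e
      exact ⟨vP p, rfl⟩
    · rw [← S.L_range] at e
      obtain ⟨j, rfl⟩ := e
      exact ⟨vL j, rfl⟩

theorem adj_E : ∀ u v : V0, S.Adj (S.E u) (S.E v) ↔ adj0 u v
  | none, none => iff_of_false (S.adj_irrefl _) id
  | none, some (Sum.inl p) => iff_of_true (S.adj_a.2 ⟨p, rfl⟩) trivial
  | none, some (Sum.inr j) => iff_of_false (S.not_adj_aL j) id
  | some (Sum.inl p), none => iff_of_true (S.adj_symm (S.adj_a.2 ⟨p, rfl⟩)) trivial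
  | some (Sum.inr j), none => iff_of_false (fun h => S.not_adj_aL j (S.adj_symm h)) id
  | some (Sum.inl p), some (Sum.inl q) => S.adj_PP p q
  | some (Sum.inl p), some (Sum.inr j) => S.adj_PL p j
  | some (Sum.inr j), some (Sum.inl p) => ⟨fun h => (S.adj_PL p j).1 (S.adj_symm h),
      fun h => S.adj_symm ((S.adj_PL p j).2 h)⟩
  | some (Sum.inr i), some (Sum.inr j) => S.adj_LL i j

/-- The action on the standard vertices. -/
noncomputable def θ : G →* Equiv.Perm V0 :=
  (Equiv.ofBijective S.E S.E_bij).permCongrHom.symm.toMonoidHom.comp (MulAction.toPermHom G Ω)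

theorem θ_spec (g : G) (v : V0) : S.E (S.θ g v) = g • S.E v :=
  (Equiv.ofBijective S.E S.E_bij).apply_symm_apply _

theorem θ_inj : Function.Injective S.θ := by
  have := S.faithful
  exact ((Equiv.ofBijective S.E S.E_bij).permCongrHom.symm.injective).comp
    (MulAction.toPerm_injective (α := G) (β := Ω))

/-- **The action is a standard model.** -/
theorem isModel : IsModel S.θ.range where
  trans v := by
    have := S.trans
    obtain ⟨g, hg⟩ := MulAction.exists_smul_eq G S.a (S.E v)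
    exact ⟨S.θ g, ⟨g, rfl⟩, S.E_bij.1 ((S.θ_spec g none).trans hg)⟩
  hat_mem σ := by
    obtain ⟨k, hk⟩ := S.ψ_surj σ.2
    refine ⟨(k : G), Equiv.ext fun v => S.E_bij.1 ((S.θ_spec _ v).trans ?_)⟩
    have hσ : (⟨S.ψ k, S.ψ_mem k⟩ : M) = σ := Subtype.ext hk
    rcases v with _ | p | j
    · exact k.2
    · rw [hat_vP, ← hk]; exact S.P_smul k p
    · rw [hat_vL, ← hσ]; exact S.L_smul k j
  stab r := by
    rintro ⟨g, rfl⟩ hr
    have hg : g ∈ S.Ga := by
      show g • S.a = S.a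
      have := (S.θ_spec g none).symm
      rwa [hr] at this
    refine ⟨⟨S.ψ ⟨g, hg⟩, S.ψ_mem _⟩, Equiv.ext fun v => S.E_bij.1 (Eq.trans ?_ (S.θ_spec _ v).symm)⟩
    rcases v with _ | p | j
    · exact (show g • S.a = S.a from hg).symm
    · exact (S.P_smul ⟨g, hg⟩ p).symm
    · exact (S.L_smul ⟨g, hg⟩ j).symm
  adj r := by
    rintro ⟨g, rfl⟩ x y
    rw [← S.adj_E, ← S.adj_E, S.θ_spec, S.θ_spec, S.adj_smul]

end Setup

/-- **Uniqueness of the rank three group.** -/
theorem nonempty_equiv_of_setup {G Ω G' Ω' : Type*} [Group G] [MulAction G Ω] [Group G']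
    [MulAction G' Ω'] (S : Setup G Ω) (S' : Setup G' Ω') : Nonempty (G ≃* G') :=
  ⟨(MonoidHom.ofInjective S.θ_inj).trans
    ((MulEquiv.subgroupCongr (S.isModel.eq S'.isModel)).trans (MonoidHom.ofInjective S'.θ_inj).symm)⟩

end Cfsg.Agent.SuzRec
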