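import Cfsg.Agent.Lib.SuzRec.LinesDefs

/-! Kernel checks: the actions on the 96-sets. -/

set_option autoImplicit false
set_option maxRecDepth 100000
set_option Elab.async false

namespace Cfsg.Agent.SuzRec

open Cfsg.Agent.PermCert Cfsg.Agent.G24J2

theorem img0_ok : all1365 (imgTest (g24Gens.getD 0 (0, 0)) linePerm0) = true := by decide +kernel

theorem img1_ok : all1365 (imgTest (g24Gens.getD 1 (0, 0)) linePerm1) = true := by decide +kernel

theorem sylImg_ok : imgAll sylGens sylPerms = true := by decide +kernel

theorem sbImg_ok : imgAll sbGens sbPerms = true := by decide +kernel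

theorem g5Img_ok : imgAll g5Gens g5Perms = true := by decide +kernel

end Cfsg.Agent.SuzRec
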