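import Cfsg.Agent.Lib.SuzRec.LinesCheck
import Cfsg.Agent.Lib.SuzRec.LinesImg
import Mathlib.Algebra.Group.Action.Pointwise.Set.Basic

/-! The 96-sets as a set acted on by the coded group. -/

set_option autoImplicit false
set_option maxRecDepth 20000

namespace Cfsg.Agent.SuzRec

open Cfsg.Agent.PermCert Cfsg.Agent.G24J2
open scoped Pointwise

attribute [local irreducible] lineRows maskRows g24Gens sylGens sbGens g5Gens linePerm0 linePerm1
  sylPerms sbPerms g5Perms maskOrd maskRank lineOrd lineRank linePar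

/-- One of the 96-sets. -/
def lineSet (j : ℕ) : Set (Fin 416) := {x | (lineMask j).testBit x = true}

theorem testBit_orBelow_iff (f : ℕ → ℕ) (b : ℕ) : ∀ k,
    (orBelow f k).testBit b = true ↔ ∃ i < k, (f i).testBit b = true
  | 0 => by simp [orBelow]
  | k + 1 => by
    rw [show orBelow f (k + 1) = orBelow f k ||| f k from rfl, Nat.testBit_or, Bool.or_eq_true,
      testBit_orBelow_iff f b k]
    constructor
    · rintro (⟨i, hi, h⟩ | h)
      · exact ⟨i, by omega, h⟩
      · exact ⟨k, by omega, h⟩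
    · rintro ⟨i, hi, h⟩
      rcases Nat.lt_succ_iff_lt_or_eq.1 hi with h1 | rfl
      · exact Or.inl ⟨i, h1, h⟩
      · exact Or.inr h

theorem row_spec {j : ℕ} (hj : j < 1365) :
    (∀ i < 96, lineElt j i < 416) ∧ (∀ i k, i < k → k < 96 → lineElt j i < lineElt j k) ∧
      ∀ b, (lineMask j).testBit b = true ↔ ∃ i < 96, lineElt j i = b := by
  have h := all1365_spec _ rows_ok j hj
  simp only [rowTest, Bool.and_eq_true, Nat.beq_eq] at h
  have h1 : ∀ i < 96, lineElt j i < 416 ∧ (i < 95 → lineElt j i < lineElt j (i + 1)) := fun i hi => by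
    have := allBelow_spec _ _ h.1 i hi
    simp only [Bool.and_eq_true, Bool.or_eq_true, Nat.blt_eq, Nat.ble_eq] at this
    exact ⟨this.1, fun h' => this.2.resolve_left (by omega)⟩
  refine ⟨fun i hi => (h1 i hi).1, fun i k hik => ?_, fun b => ?_⟩
  · induction hik with
    | refl => intro hk; exact (h1 i (by omega)).2 (by omega)
    | step hle ih =>
      intro hk
      have := Nat.lt_of_succ_le hle
      exact (ih (by omega)).trans ((h1 _ (by omega)).2 (by omega))
  · rw [← h.2, testBit_orBelow_iff]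
    simp only [Nat.shiftLeft_eq', Nat.one_shiftLeft, Nat.testBit_two_pow, decide_eq_true_eq]

theorem mem_lineSet {j : ℕ} (hj : j < 1365) (x : Fin 416) :
    x ∈ lineSet j ↔ ∃ i < 96, lineElt j i = x := (row_spec hj).2.2 x

theorem lineSet_eq_range {j : ℕ} (hj : j < 1365) :
    lineSet j = Set.range fun i : Fin 96 => (⟨lineElt j i, (row_spec hj).1 i i.2⟩ : Fin 416) := by
  ext x
  rw [mem_lineSet hj]
  exact ⟨fun ⟨i, hi, e⟩ => ⟨⟨i, hi⟩, Fin.ext e⟩, fun ⟨i, e⟩ => ⟨i, i.2, congrArg Fin.val e⟩⟩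

theorem lineSet_ncard {j : ℕ} (hj : j < 1365) : (lineSet j).ncard = 96 := by
  rw [lineSet_eq_range hj, Set.ncard_range_of_injective, Nat.card_fin]
  intro i k e
  have e' : lineElt j i = lineElt j k := congrArg Fin.val e
  rcases lt_trichotomy (i : ℕ) k with h | h | h
  · exact absurd e' ((row_spec hj).2.1 _ _ h k.2).ne
  · exact Fin.ext h
  · exact absurd e' ((row_spec hj).2.1 _ _ h i.2).ne'

/-- A strictly ordered listing gives injectivity. -/
theorem ordTest_inj {f : ℕ → ℕ} {o r : ℕ} (h : ordTest f o r = true) {a b : ℕ} (ha : a < 1365)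
    (hb : b < 1365) (e : f a = f b) : a = b := by
  have hs : ∀ i < 1365, get 11 r i < 1365 ∧ get 11 o (get 11 r i) = i ∧
      (i < 1364 → f (get 11 o i) < f (get 11 o (i + 1))) := fun i hi => by
    have := all1365_spec _ h i hi
    simp only [Bool.and_eq_true, Bool.or_eq_true, Nat.blt_eq, Nat.ble_eq, Nat.beq_eq] at this
    exact ⟨this.1.1, this.1.2, fun h' => this.2.resolve_left (by omega)⟩
  have mono : ∀ i k, i < k → k < 1365 → f (get 11 o i) < f (get 11 o k) := fun i k hik => by
    induction hik with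
    | refl => intro hk; exact (hs i (by omega)).2.2 (by omega)
    | step hle ih =>
      intro hk
      have := Nat.lt_of_succ_le hle
      exact (ih (by omega)).trans ((hs _ (by omega)).2.2 (by omega))
  obtain ⟨ra, ea, -⟩ := hs a ha
  obtain ⟨rb, eb, -⟩ := hs b hb
  rcases lt_trichotomy (get 11 r a) (get 11 r b) with h' | h' | h'
  · have := mono _ _ h' rb; rw [ea, eb, e] at this; exact absurd this (lt_irrefl _)
  · rw [← ea, h', eb]
  · have := mono _ _ h' ra; rw [ea, eb, e] at this; exact absurd this (lt_irrefl _)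

theorem lineSet_inj {a b : ℕ} (ha : a < 1365) (hb : b < 1365) (e : lineSet a = lineSet b) : a = b := by
  refine ordTest_inj masks_ok ha hb (Nat.eq_of_testBit_eq fun i => ?_)
  rw [Bool.eq_iff_iff]
  by_cases hi : i < 416
  · exact Set.ext_iff.1 e ⟨i, hi⟩
  · rw [(row_spec ha).2.2, (row_spec hb).2.2]
    constructor <;> rintro ⟨k, hk, rfl⟩ <;> exfalso <;> first
      | exact hi ((row_spec ha).1 k hk)
      | exact hi ((row_spec hb).1 k hk)

theorem img_spec {e : Elt} (hv : validElt 9 416 e = true) {p j : ℕ} (hj : j < 1365)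
    (h : imgTest e p j = true) :
    get 11 p j < 1365 ∧ toPerm 9 416 e • lineSet j = lineSet (get 11 p j) := by
  simp only [imgTest_eq, Bool.and_eq_true, Nat.blt_eq, Nat.beq_eq] at h
  refine ⟨h.1, Set.eq_of_subset_of_ncard_le ?_ ?_⟩
  · rintro _ ⟨x, hx, rfl⟩
    obtain ⟨i, hi, e'⟩ := (mem_lineSet hj x).1 hx
    show (lineMask _).testBit _ = true
    rw [← h.2, testBit_orBelow_iff]
    refine ⟨i, hi, ?_⟩
    rw [e', ((rep_toPerm hv) x).1, Nat.shiftLeft_eq', Nat.one_shiftLeft, Nat.testBit_two_pow,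
      decide_eq_true_eq]
    rfl
  · rw [lineSet_ncard h.1, Set.ncard_smul_set, lineSet_ncard hj]

attribute [local irreducible] lineSet lineMask lineRow

theorem imgAll_spec : ∀ {es : List Elt} {ps : List ℕ}, imgAll es ps = true →
    (∀ e ∈ es, validElt 9 416 e = true) →
    (∀ e ∈ es, ∃ p ∈ ps, ∀ j < 1365, get 11 p j < 1365 ∧
      toPerm 9 416 e • lineSet j = lineSet (get 11 p j)) ∧
    ∀ c < ps.length, ∃ e ∈ es, ∀ j < 1365, get 11 (ps.getD c 0) j < 1365 ∧
      toPerm 9 416 e • lineSet j = lineSet (get 11 (ps.getD c 0) j)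
  | [], [], _, _ => ⟨by simp, by simp⟩
  | [], _ :: _, h, _ => by simp [imgAll] at h
  | _ :: _, [], h, _ => by simp [imgAll] at h
  | e :: es, p :: ps, h, hv => by
    simp only [imgAll, Bool.and_eq_true] at h
    obtain ⟨h1, h2⟩ := imgAll_spec h.2 fun x hx => hv x (List.mem_cons_of_mem _ hx)
    have hh := fun j hj => img_spec (hv e List.mem_cons_self) hj (all1365_spec _ h.1 j hj)
    refine ⟨fun x hx => ?_, fun c hc => ?_⟩
    · rcases List.mem_cons.1 hx with rfl | hx
      · exact ⟨p, List.mem_cons_self, hh⟩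
      · obtain ⟨q, hq, hq'⟩ := h1 x hx
        exact ⟨q, List.mem_cons_of_mem _ hq, hq'⟩
    · cases c with
      | zero => exact ⟨e, List.mem_cons_self, hh⟩
      | succ c =>
        obtain ⟨x, hx, hx'⟩ := h2 c (by simpa using hc)
        exact ⟨x, List.mem_cons_of_mem _ hx, hx'⟩

variable {es : List Elt} {ps roots : List ℕ} {ord rank par lab : ℕ}

/-- The group keeps the class of a set. -/
theorem class_inv (hv : ∀ e ∈ es, validElt 9 416 e = true) (hi : imgAll es ps = true)
    (h : classTest ps roots ord rank par lab = true) {σ : Equiv.Perm (Fin 416)}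
    (hσ : σ ∈ genGroup 9 416 es) :
    (∀ j < 1365, ∃ k < 1365, σ • lineSet j = lineSet k ∧ labOf lab k = labOf lab j) ∧
      ∀ k < 1365, ∃ j < 1365, σ • lineSet j = lineSet k ∧ labOf lab k = labOf lab j := by
  obtain ⟨hmem, -⟩ := imgAll_spec hi hv
  simp only [classTest, Bool.and_eq_true, List.all_eq_true] at h
  induction hσ using Subgroup.closure_induction with
  | mem τ hτ =>
    obtain ⟨e, he, rfl⟩ := List.mem_map.1 hτ
    obtain ⟨p, hp, hpj⟩ := hmem e he
    have hl : ∀ j < 1365, labOf lab (get 11 p j) = labOf lab j := fun j hj =>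
      Nat.eq_of_beq_eq_true (all1365_spec _ (h.1.1 p hp) j hj)
    refine ⟨fun j hj => ⟨_, (hpj j hj).1, (hpj j hj).2, hl j hj⟩, fun k hk => ?_⟩
    let f : Fin 1365 → Fin 1365 := fun j => ⟨get 11 p j, (hpj j j.2).1⟩
    have hf : Function.Injective f := fun a b e' => Fin.ext (lineSet_inj a.2 b.2 (by
      have e'' : get 11 p a = get 11 p b := congrArg Fin.val e'
      refine smul_left_cancel (toPerm 9 416 e) ?_
      rw [(hpj a a.2).2, (hpj b b.2).2, e'']))
    obtain ⟨j, hj⟩ := (Finite.injective_iff_surjective.1 hf) ⟨k, hk⟩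
    have hj' : get 11 p j = k := congrArg Fin.val hj
    subst hj'
    exact ⟨j, j.2, (hpj j j.2).2, hl j j.2⟩
  | one => exact ⟨fun j hj => ⟨j, hj, one_smul _ _, rfl⟩, fun j hj => ⟨j, hj, one_smul _ _, rfl⟩⟩
  | mul p q _ _ hp hq =>
    refine ⟨fun j hj => ?_, fun k hk => ?_⟩
    · obtain ⟨k, hk, e1, l1⟩ := hq.1 j hj
      obtain ⟨m, hm, e2, l2⟩ := hp.1 k hk
      exact ⟨m, hm, by rw [mul_smul, e1, e2], l2.trans l1⟩
    · obtain ⟨m, hm, e2, l2⟩ := hp.2 k hk
      obtain ⟨j, hj, e1, l1⟩ := hq.2 m hm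
      exact ⟨j, hj, by rw [mul_smul, e1, e2], l2.trans l1⟩
  | inv p _ hp =>
    refine ⟨fun j hj => ?_, fun k hk => ?_⟩
    · obtain ⟨m, hm, e, l⟩ := hp.2 j hj
      exact ⟨m, hm, by rw [← e, inv_smul_smul], l.symm⟩
    · obtain ⟨m, hm, e, l⟩ := hp.1 k hk
      exact ⟨m, hm, by rw [← e, inv_smul_smul], l.symm⟩

/-- Every set is reached from the root of its class. -/
theorem class_reach (hv : ∀ e ∈ es, validElt 9 416 e = true) (hi : imgAll es ps = true)
    (h : classTest ps roots ord rank par lab = true) {j : ℕ} (hj : j < 1365) :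
    labOf lab j < roots.length ∧ roots.getD (labOf lab j) 0 < 1365 ∧
      ∃ σ ∈ genGroup 9 416 es, σ • lineSet (roots.getD (labOf lab j) 0) = lineSet j := by
  obtain ⟨-, hgen⟩ := imgAll_spec hi hv
  have h' := h
  simp only [classTest, Bool.and_eq_true, List.all_eq_true] at h'
  have key : ∀ i, ∀ (_ : i < 1365), ∀ j < 1365, get 11 rank j = i → ∃ k < roots.length,
      roots.getD k 0 < 1365 ∧ labOf lab (roots.getD k 0) = k ∧
      ∃ σ ∈ genGroup 9 416 es, σ • lineSet (roots.getD k 0) = lineSet j := by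
    intro i
    induction i using Nat.strong_induction_on with
    | _ i ih =>
      intro hi' j hj hr
      have hrj := all1365_spec _ h'.2 j hj
      simp only [Bool.and_eq_true, Nat.beq_eq] at hrj
      rw [hr] at hrj
      have hio : get 11 ord i = j := hrj.1.2
      have ht := all1365_spec _ h'.2 i hi'
      simp only [Bool.and_eq_true, Bool.or_eq_true, Nat.blt_eq] at ht
      by_cases hroot : i < roots.length
      · have := allBelow_spec _ _ h'.1.2 i hroot
        simp only [Bool.and_eq_true, Nat.blt_eq, Nat.beq_eq] at this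
        refine ⟨i, hroot, this.1.1, this.1.2, 1, one_mem _, ?_⟩
        rw [one_smul, ← this.2, hio]
      · -- parents are recorded at the place of the point
        have hi2 := all1365_spec _ h'.2 (get 11 ord i) (hio ▸ hj)
        simp only [Bool.and_eq_true, Bool.or_eq_true, Nat.blt_eq, Nat.beq_eq] at hi2
        have ht' := ht.2.resolve_left hroot
        obtain ⟨⟨hpi, hc⟩, hstep⟩ := ht'
        simp only [Nat.beq_eq] at hstep
        have hm : get 11 ord (get 16 par i / 8) < 1365 ∧
            get 11 rank (get 11 ord (get 16 par i / 8)) = get 16 par i / 8 := by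
          have hplace : get 16 par i / 8 < 1365 := by omega
          have hs : ∀ a < 1365, get 11 rank a < 1365 ∧ get 11 ord (get 11 rank a) = a := fun a ha => by
            have := all1365_spec _ h'.2 a ha
            simp only [Bool.and_eq_true, Nat.blt_eq, Nat.beq_eq] at this
            exact this.1
          let r : Fin 1365 → Fin 1365 := fun a => ⟨get 11 rank a, (hs a a.2).1⟩
          have hr' : Function.Injective r := fun a b e => Fin.ext (by
            have := congrArg (fun x : Fin 1365 => get 11 ord x) e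
            simpa [r, (hs a a.2).2, (hs b b.2).2] using this)
          obtain ⟨a, ha⟩ := (Finite.injective_iff_surjective.1 hr') ⟨_, hplace⟩
          have ha' : get 11 rank a = get 16 par i / 8 := congrArg Fin.val ha
          rw [← ha', (hs a a.2).2]
          exact ⟨a.2, rfl⟩
        obtain ⟨k, hk, hk1, hk2, σ, hσ, hσe⟩ := ih _ hpi (by omega) _ hm.1 hm.2
        obtain ⟨e, he, hej⟩ := hgen _ hc
        refine ⟨k, hk, hk1, hk2, toPerm 9 416 e * σ, mul_mem (mem_genGroup_toPerm he) hσ, ?_⟩
        rw [mul_smul, hσe, (hej _ hm.1).2, hstep, hio]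
  have hr := all1365_spec _ h'.2 j hj
  simp only [Bool.and_eq_true, Nat.blt_eq] at hr
  obtain ⟨k, hk, hk1, hk2, σ, hσ, e⟩ := key _ hr.1.1 j hj rfl
  obtain ⟨m, hm, e2, l2⟩ := (class_inv hv hi h hσ).1 _ hk1
  rw [e] at e2
  have := lineSet_inj hj hm e2
  subst this
  rw [hk2] at l2
  rw [l2]
  exact ⟨hk, hk1, σ, hσ, e⟩

theorem class_iff (hv : ∀ e ∈ es, validElt 9 416 e = true) (hi : imgAll es ps = true)
    (h : classTest ps roots ord rank par lab = true) {a b : ℕ} (ha : a < 1365) (hb : b < 1365) :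
    (∃ σ ∈ genGroup 9 416 es, σ • lineSet a = lineSet b) ↔ labOf lab b = labOf lab a := by
  constructor
  · rintro ⟨σ, hσ, e⟩
    obtain ⟨k, hk, e2, l⟩ := (class_inv hv hi h hσ).1 a ha
    rw [e] at e2
    rw [lineSet_inj hb hk e2, l]
  · intro e
    obtain ⟨-, -, σ, hσ, eσ⟩ := class_reach hv hi h ha
    obtain ⟨-, -, τ, hτ, eτ⟩ := class_reach hv hi h hb
    refine ⟨τ * σ⁻¹, mul_mem hτ (inv_mem hσ), ?_⟩
    rw [mul_smul, ← eσ, inv_smul_smul, ← e, eτ]

/-- The actions of the two generators. -/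
theorem img_M : imgAll g24Gens linePerms = true ∧ ∀ e ∈ g24Gens, validElt 9 416 e = true := by
  obtain ⟨hv0, hv1, hlen⟩ := g24_valid
  obtain ⟨x, y, h⟩ := List.length_eq_two.1 hlen
  have h0 := img0_ok
  have h1 := img1_ok
  rw [h] at hv0 hv1 h0 h1
  rw [h]
  refine ⟨?_, fun e he => ?_⟩
  · simp only [imgAll, linePerms, Bool.and_eq_true, and_true]
    exact ⟨h0, h1⟩
  · simp only [List.mem_cons, List.not_mem_nil, or_false] at he
    rcases he with rfl | rfl
    · exact hv0
    · exact hv1

/-- The group permutes the sets transitively. -/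
theorem M_lines {a b : ℕ} (ha : a < 1365) (hb : b < 1365) : ∃ σ ∈ M, σ • lineSet a = lineSet b :=
  (class_iff img_M.2 img_M.1 line_class_ok ha hb).2 (by simp [labOf, PermCert.get])

theorem M_lines_closed {σ : Equiv.Perm (Fin 416)} (hσ : σ ∈ M) {a : ℕ} (ha : a < 1365) :
    ∃ b < 1365, σ • lineSet a = lineSet b := by
  obtain ⟨b, hb, e, -⟩ := (class_inv img_M.2 img_M.1 line_class_ok hσ).1 a ha
  exact ⟨b, hb, e⟩

end Cfsg.Agent.SuzRec
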