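import Cfsg.Agent.Lib.SuzRec.LinesDefs

/-! Kernel checks on the 96-sets. -/

set_option autoImplicit false
set_option maxRecDepth 100000
set_option Elab.async false

namespace Cfsg.Agent.SuzRec

open Cfsg.Agent.PermCert Cfsg.Agent.G24J2

theorem rows_ok : all1365 rowTest = true := by decide +kernel

theorem masks_ok : ordTest lineMask maskOrd maskRank = true := by decide +kernel

theorem fives_ok : (all1365 fiveTest && ordTest fiveAt fiveOrd fiveRank) = true := by decide +kernel

theorem line_class_ok : classTest linePerms [0] lineOrd lineRank linePar 0 = true := by decide +kernel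

theorem syl_class_ok :
    (classTest sylPerms sylLineRoots sylLineOrd sylLineRank sylLinePar sylLineLab &&
      Nat.beq sylLineRoots.length 6) = true := by decide +kernel

theorem sb_class_ok :
    (classTest sbPerms sbLineRoots sbLineOrd sbLineRank sbLinePar sbLineLab &&
      Nat.beq sbLineRoots.length 4) = true := by decide +kernel

theorem sbPt_ok : orbOK 9 416 sbGens sbPtRoots sbPtTree sbPtLab = true := by decide +kernel

theorem g5Pt_ok : orbOK 9 416 g5Gens g5PtRoots g5PtTree g5PtLab = true := by decide +kernel

theorem syl_cert : checkCert 9 416 sylGens sylDerived sylLevels = true := by decide +kernel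

theorem syl_order : certOrder sylLevels = 4096 := by decide +kernel

theorem gens_in : (allIn sylGens && allIn sbGens && allIn g5Gens) = true := by decide +kernel

theorem fixes_ok : (sylPerms.all (fun p => Nat.beq (get 11 p 0) 0) &&
    sbPerms.all (fun p => Nat.beq (get 11 p 0) 0) &&
    g5Perms.all (fun p => allBelow (fun s => (List.range 5).any fun t =>
      Nat.beq (get 11 p (get 11 (fiveAt 0) s)) (get 11 (fiveAt 0) t)) 5) &&
    allBelow (fun s => Nat.beq (get 11 (fiveAt 0) s) ([0, 879, 915, 1034, 1214].getD s 0)) 5) = true := by
  decide +kernel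

theorem syl_sums : allBelow (fun m => !Nat.testBit m 0 || !Nat.beq (45 % lineSum sylLineLab m) 0 ||
    Nat.beq m 1 || Nat.beq m 3) 64 = true := by decide +kernel

theorem syl_five : all1365 (fun a => decide (Nat.testBit 3 (labOf sylLineLab a) =
    ((List.range 5).any fun t => Nat.beq a (get 11 (fiveAt 0) t))) &&
    Nat.blt (labOf sylLineLab a) 6) = true := by decide +kernel

theorem sb_classes : all1365 (fun a => Nat.blt (labOf sbLineLab a) 4 &&
    decide (Nat.beq (labOf sbLineLab a) 0 = Nat.beq a 0)) = true := by decide +kernel

theorem sbPt_sums : (allBelow (fun m => !Nat.beq (ptSum sbPtLab m) 96 || Nat.beq m 1) 4 &&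
    allBelow (fun a => decide (Nat.beq (labOf sbPtLab a) 0 = Nat.testBit (lineMask 0) a) &&
      Nat.blt (labOf sbPtLab a) 2) 416 && Nat.beq sbPtRoots.length 2) = true := by decide +kernel

theorem g5Pt_sums : (allBelow (fun m => !Nat.beq (ptSum g5PtLab m) 96) 4 &&
    allBelow (fun a => Nat.blt (labOf g5PtLab a) 2) 416 && Nat.beq g5PtRoots.length 2) = true := by
  decide +kernel

end Cfsg.Agent.SuzRec
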