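import Cfsg.Agent.Lib.SuzRec.Base
import Cfsg.Agent.Lib.SuzRec.Fast
import Cfsg.Agent.Lib.SuzRec.DataLines
import Cfsg.Agent.Lib.SuzRec.DataOrbits
import Cfsg.Agent.Lib.SuzRec.DataTrees
import Cfsg.Agent.Lib.SuzRec.DataU

/-! The tests on the 96-sets. -/

set_option autoImplicit false

namespace Cfsg.Agent.SuzRec

open Cfsg.Agent.PermCert Cfsg.Agent.G24J2

/-- The packed elements of a set. -/
def lineRow (j : ℕ) : ℕ := (lineRows.getD (j / 35) []).getD (j % 35) 0

/-- The mask of a set. -/
def lineMask (j : ℕ) : ℕ := (maskRows.getD (j / 35) []).getD (j % 35) 0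

/-- An element of a set. -/
def lineElt (j i : ℕ) : ℕ := get 9 (lineRow j) i

/-- The row and the mask agree and have 96 elements. -/
def rowTest (j : ℕ) : Bool :=
  allBelow (fun i => Nat.blt (lineElt j i) 416 &&
      (Nat.ble 95 i || Nat.blt (lineElt j i) (lineElt j (i + 1)))) 96 &&
    Nat.beq (orBelow (fun i => Nat.shiftLeft 1 (lineElt j i)) 96) (lineMask j)

/-- A code maps every set as the permutation of the sets says. -/
def imgTest (e : Elt) (p j : ℕ) : Bool :=
  force (lineRow j) fun row =>
    Nat.blt (getF11 p j) 1365 &&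
      Nat.beq (orBelow (fun i => Nat.shiftLeft 1 (getF e.1 (getF row i))) 96) (lineMask (getF11 p j))
where
  /-- Read eleven bits. -/
  getF11 (p j : ℕ) : ℕ := Nat.land (Nat.shiftRight p (Nat.mul 11 j)) 2047

theorem getF11_eq (p j : ℕ) : imgTest.getF11 p j = get 11 p j := Nat.and_two_pow_sub_one_eq_mod _ 11

theorem imgTest_eq (e : Elt) (p j : ℕ) : imgTest e p j = (Nat.blt (get 11 p j) 1365 &&
    Nat.beq (orBelow (fun i => Nat.shiftLeft 1 (get 9 e.1 (lineElt j i))) 96)
      (lineMask (get 11 p j))) := by
  simp only [imgTest, force_eq, getF_eq, getF11_eq, lineElt]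

/-- All codes of a list act on the sets as listed. -/
def imgAll : List Elt → List ℕ → Bool
  | [], [] => true
  | e :: es, p :: ps => all1365 (imgTest e p) && imgAll es ps
  | _, _ => false

/-- A permutation ordering the values of a function strictly. -/
def ordTest (f : ℕ → ℕ) (o r : ℕ) : Bool :=
  all1365 fun i => Nat.blt (get 11 r i) 1365 && Nat.beq (get 11 o (get 11 r i)) i &&
    (Nat.ble 1364 i || Nat.blt (f (get 11 o i)) (f (get 11 o (i + 1))))

/-- Packed search trees for the classes of sets under a list of permutations. -/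
def classTest (ps : List ℕ) (roots : List ℕ) (ord rank par lab : ℕ) : Bool :=
  (ps.all fun p => all1365 fun j => Nat.beq (labOf lab (get 11 p j)) (labOf lab j)) &&
  (allBelow (fun k => Nat.blt (roots.getD k 0) 1365 && Nat.beq (labOf lab (roots.getD k 0)) k &&
    Nat.beq (get 11 ord k) (roots.getD k 0)) roots.length) &&
  all1365 fun i => Nat.blt (get 11 rank i) 1365 && Nat.beq (get 11 ord (get 11 rank i)) i &&
    (Nat.blt i roots.length ||
      (let pc := get 16 par i
       Nat.blt (pc / 8) i && Nat.blt (pc % 8) ps.length &&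
         Nat.beq (get 11 (ps.getD (pc % 8) 0) (get 11 ord (pc / 8))) (get 11 ord i)))

/-- The two generators on the sets. -/
def linePerms : List ℕ := [linePerm0, linePerm1]

/-- One of the images of the five sets. -/
def fiveAt (i : ℕ) : ℕ := get 55 fivesCode i

/-- The images of the five sets form a tree. -/
def fiveTest (i : ℕ) : Bool :=
  let c := fiveAt i
  allBelow (fun s => Nat.blt (get 11 c s) 1365 &&
      (Nat.ble 4 s || Nat.blt (get 11 c s) (get 11 c (s + 1)))) 5 &&
    (Nat.beq i 0 ||
      (let pc := get 16 fivePar i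
       Nat.blt (pc / 8) i && Nat.blt (pc % 8) 2 &&
        allBelow (fun s =>
          (List.range 5).any fun t => Nat.beq (get 11 (linePerms.getD (pc % 8) 0) (get 11 (fiveAt (pc / 8)) s))
            (get 11 c t)) 5))

/-- Sums of classes of sets. -/
def lineSum (lab m : ℕ) : ℕ :=
  cnt (fun a => Nat.testBit m (labOf lab a)) 1365

/-- Sums of classes of points. -/
def ptSum (lab m : ℕ) : ℕ :=
  cnt (fun a => Nat.testBit m (labOf lab a)) 416

end Cfsg.Agent.SuzRec
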