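import Cfsg.Agent.Lib.SuzRec.Pins
import Cfsg.Agent.Lib.J2.Out
import Cfsg.Agent.Lib.J2.Group

/-! The standard graph on 1782 vertices and the uniqueness of its rank three group. -/

set_option autoImplicit false
set_option maxRecDepth 20000

namespace Cfsg.Agent.SuzRec

open Cfsg.Agent.PermCert Cfsg.Agent.G24J2
open scoped Pointwise

attribute [local irreducible] g24Gens g24Levels lineRows maskRows lineSet mE orbHLab

/-- The vertices. -/
abbrev V0 : Type := Option (Fin 416 ⊕ Fin 1365)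

/-- A point as a vertex. -/
abbrev vP (p : Fin 416) : V0 := some (Sum.inl p)

/-- A set as a vertex. -/
abbrev vL (j : Fin 1365) : V0 := some (Sum.inr j)

/-- Adjacency. -/
def adj0 : V0 → V0 → Prop
  | none, none => False
  | none, some (Sum.inl _) => True
  | none, some (Sum.inr _) => False
  | some (Sum.inl _), none => True
  | some (Sum.inr _), none => False
  | some (Sum.inl p), some (Sum.inl q) => Madj p q
  | some (Sum.inl p), some (Sum.inr j) => p ∈ lineSet j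
  | some (Sum.inr j), some (Sum.inl p) => p ∈ lineSet j
  | some (Sum.inr j), some (Sum.inr k) => (lineSet j ∩ lineSet k).ncard = 24

theorem adj0_symm : ∀ {x y : V0}, adj0 x y → adj0 y x
  | none, none, h => h
  | none, some (Sum.inl _), h => h
  | none, some (Sum.inr _), h => h
  | some (Sum.inl _), none, h => h
  | some (Sum.inr _), none, h => h
  | some (Sum.inl _), some (Sum.inl _), h => Madj_symm h
  | some (Sum.inl _), some (Sum.inr _), h => h
  | some (Sum.inr _), some (Sum.inl _), h => h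
  | some (Sum.inr j), some (Sum.inr k), h => by
    show (lineSet k ∩ lineSet j).ncard = 24
    rw [Set.inter_comm]; exact h

theorem adj0_none : ∀ {x : V0}, adj0 none x → ∃ p, x = vP p
  | none, h => h.elim
  | some (Sum.inl p), _ => ⟨p, rfl⟩
  | some (Sum.inr _), h => h.elim

/-- The image of a set's index. -/
noncomputable def lineImg (σ : M) (j : Fin 1365) : Fin 1365 :=
  ⟨(M_lines_closed σ.2 j.2).choose, (M_lines_closed σ.2 j.2).choose_spec.1⟩

theorem lineImg_spec (σ : M) (j : Fin 1365) :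
    (σ : Equiv.Perm (Fin 416)) • lineSet j = lineSet (lineImg σ j) :=
  (M_lines_closed σ.2 j.2).choose_spec.2

theorem lineImg_eq {σ : M} {j k : Fin 1365}
    (h : (σ : Equiv.Perm (Fin 416)) • lineSet j = lineSet k) : lineImg σ j = k :=
  Fin.ext (lineSet_inj (lineImg σ j).2 k.2 ((lineImg_spec σ j).symm.trans h))

theorem lineImg_one (j : Fin 1365) : lineImg 1 j = j := lineImg_eq (one_smul _ _)

theorem lineImg_mul (σ τ : M) (j : Fin 1365) : lineImg (σ * τ) j = lineImg σ (lineImg τ j) :=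
  lineImg_eq (by rw [Subgroup.coe_mul, mul_smul, lineImg_spec τ j, lineImg_spec σ])

/-- The action on the vertices. -/
noncomputable def hatFun (σ : M) : V0 → V0 :=
  Option.map (Sum.map (σ : Equiv.Perm (Fin 416)) (lineImg σ))

theorem hatFun_one : ∀ x, hatFun 1 x = x
  | none => rfl
  | some (Sum.inl _) => rfl
  | some (Sum.inr j) => congrArg vL (lineImg_one j)

theorem hatFun_mul (σ τ : M) : ∀ x, hatFun (σ * τ) x = hatFun σ (hatFun τ x)
  | none => rfl
  | some (Sum.inl _) => rfl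
  | some (Sum.inr j) => congrArg vL (lineImg_mul σ τ j)

/-- The action as a homomorphism. -/
noncomputable def hat : M →* Equiv.Perm V0 :=
  MonoidHom.mk' (fun σ => ⟨hatFun σ, hatFun σ⁻¹,
    fun x => by rw [← hatFun_mul, inv_mul_cancel, hatFun_one],
    fun x => by rw [← hatFun_mul, mul_inv_cancel, hatFun_one]⟩)
    fun σ τ => Equiv.ext (hatFun_mul σ τ)

theorem hat_none (σ : M) : hat σ none = none := rfl

theorem hat_vP (σ : M) (p : Fin 416) : hat σ (vP p) = vP ((σ : Equiv.Perm (Fin 416)) p) := rfl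

theorem hat_vL (σ : M) (j : Fin 1365) : hat σ (vL j) = vL (lineImg σ j) := rfl

theorem hat_inj : Function.Injective hat := fun σ τ h => Subtype.ext (Equiv.ext fun p => by
  have := Equiv.ext_iff.1 h (vP p)
  rw [hat_vP, hat_vP] at this
  exact Sum.inl_injective (Option.some_injective _ this))

/-- The properties of a rank three group on the standard graph. -/
structure IsModel (R : Subgroup (Equiv.Perm V0)) : Prop where
  trans : ∀ v, ∃ r ∈ R, r none = v
  hat_mem : ∀ σ, hat σ ∈ R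
  stab : ∀ r ∈ R, r none = none → ∃ σ, hat σ = r
  adj : ∀ r ∈ R, ∀ x y, adj0 (r x) (r y) ↔ adj0 x y

theorem IsModel.swap {R : Subgroup (Equiv.Perm V0)} (hR : IsModel R) (p : Fin 416) :
    ∃ t ∈ R, t none = vP p ∧ t (vP p) = none := by
  obtain ⟨r, hr, e⟩ := hR.trans (vP p)
  have h : adj0 (r none) (r (r⁻¹ none)) := by
    rw [e, Equiv.Perm.inv_def, Equiv.apply_symm_apply]
    trivial
  obtain ⟨q, hq⟩ := adj0_none ((hR.adj r hr _ _).1 h)
  obtain ⟨σ, hσ, hpq⟩ := M_trans p q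
  refine ⟨r * hat ⟨σ, hσ⟩, mul_mem hr (hR.hat_mem _), by rw [Equiv.Perm.mul_apply, hat_none, e], ?_⟩
  rw [Equiv.Perm.mul_apply, hat_vP, show ((⟨σ, hσ⟩ : M) : Equiv.Perm (Fin 416)) p = q from hpq, ← hq,
    Equiv.Perm.inv_def, Equiv.apply_symm_apply]

/-- The stabiliser of a point acting on the vertices. -/
noncomputable def hatJ : Jp 0 →* Equiv.Perm V0 :=
  hat.comp (Subgroup.inclusion (show Jp 0 ≤ M from inf_le_left))

theorem hatJ_none (h : Jp 0) : hatJ h none = none := rfl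

theorem hatJ_vP (h : Jp 0) (p : Fin 416) : hatJ h (vP p) = vP ((h : Equiv.Perm (Fin 416)) p) := rfl

theorem hatJ_zero (h : Jp 0) : hatJ h (vP 0) = vP 0 := congrArg vP h.2.2

theorem hatJ_inj : Function.Injective hatJ := fun a b h =>
  Subgroup.inclusion_injective _ (hat_inj h)

theorem IsModel.hatJ_mem {R : Subgroup (Equiv.Perm V0)} (hR : IsModel R) (h : Jp 0) : hatJ h ∈ R :=
  hR.hat_mem _

theorem exists_conjJ {R : Subgroup (Equiv.Perm V0)} (hR : IsModel R) {t : Equiv.Perm V0} (ht : t ∈ R)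
    (h0 : t none = vP 0) (h1 : t (vP 0) = none) (h : Jp 0) : ∃ h', hatJ h' = t * hatJ h * t⁻¹ := by
  have i0 : t⁻¹ none = vP 0 := by rw [← h1, Equiv.Perm.inv_def, Equiv.symm_apply_apply]
  have i1 : t⁻¹ (vP 0) = none := by rw [← h0, Equiv.Perm.inv_def, Equiv.symm_apply_apply]
  obtain ⟨σ, hσ⟩ := hR.stab _ (mul_mem (mul_mem ht (hR.hatJ_mem h)) (inv_mem ht))
    (by rw [Equiv.Perm.mul_apply, Equiv.Perm.mul_apply, i0, hatJ_zero, h1])
  have hz : (σ : Equiv.Perm (Fin 416)) 0 = 0 := by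
    have := Equiv.ext_iff.1 hσ (vP 0)
    rw [Equiv.Perm.mul_apply, Equiv.Perm.mul_apply, i1, hatJ_none, h0, hat_vP] at this
    exact Sum.inl_injective (Option.some_injective _ this)
  exact ⟨⟨σ, σ.2, hz⟩, hσ⟩

/-- Conjugation by a swapping element on the stabiliser. -/
theorem exists_aut {R : Subgroup (Equiv.Perm V0)} (hR : IsModel R) {t : Equiv.Perm V0} (ht : t ∈ R)
    (h0 : t none = vP 0) (h1 : t (vP 0) = none) :
    ∃ α : MulAut (Jp 0), ∀ h, hatJ (α h) = t * hatJ h * t⁻¹ := by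
  choose f hf using exists_conjJ hR ht h0 h1
  have hti : t⁻¹ none = vP 0 := by rw [← h1, Equiv.Perm.inv_def, Equiv.symm_apply_apply]
  have hti' : t⁻¹ (vP 0) = none := by rw [← h0, Equiv.Perm.inv_def, Equiv.symm_apply_apply]
  choose g hg using exists_conjJ hR (inv_mem ht) hti hti'
  refine ⟨{ toFun := f, invFun := g, left_inv := fun h => hatJ_inj ?_, right_inv := fun h => hatJ_inj ?_,
            map_mul' := fun a b => hatJ_inj ?_ }, hf⟩
  · rw [hg, hf]; group
  · rw [hf, hg]; group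
  · rw [map_mul, hf, hf, hf, map_mul]; group

/-- An element fixing the two base vertices and commuting with the stabiliser fixes the suborbit of
size 100. -/
theorem fix_D100 {k : Equiv.Perm V0} (hcomm : ∀ h, Commute k (hatJ h))
    (himg : ∀ q ∈ D100, ∃ x ∈ D100, k (vP q) = vP x) : ∀ q ∈ D100, k (vP q) = vP q := by
  obtain ⟨x, hx, e⟩ := himg 4 mE_facts.2.2.2.2.2.1
  have hx4 : x = 4 := pinA hx fun h hh h4 => by
    have := Equiv.ext_iff.1 (hcomm ⟨h, hh⟩).eq (vP 4)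
    rw [Equiv.Perm.mul_apply, Equiv.Perm.mul_apply, e, hatJ_vP, hatJ_vP,
      show ((⟨h, hh⟩ : Jp 0) : Equiv.Perm (Fin 416)) 4 = 4 from h4, e] at this
    exact (Sum.inl_injective (Option.some_injective _ this)).symm
  subst hx4
  intro q hq
  obtain ⟨h, hh, e'⟩ := (J_orbit 4 q).2 (hq.trans mE_facts.2.2.2.2.2.1.symm)
  have := Equiv.ext_iff.1 (hcomm ⟨h, hh⟩).eq (vP 4)
  rw [Equiv.Perm.mul_apply, Equiv.Perm.mul_apply, e, hatJ_vP,
    show ((⟨h, hh⟩ : Jp 0) : Equiv.Perm (Fin 416)) 4 = q from e'] at this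
  exact this

/-- The centraliser condition forces the identity. -/
theorem pin {f : Equiv.Perm V0} (hadj : ∀ x y, adj0 (f x) (f y) ↔ adj0 x y) (hn : f none = none)
    (h0 : f (vP 0) = vP 0) (hcomm : ∀ h, Commute f (hatJ h)) : f = 1 := by
  have himg : ∀ q, ∃ x, f (vP q) = vP x ∧ (x ∈ D100 ↔ q ∈ D100) ∧ (x = 0 ↔ q = 0) := by
    intro q
    have h : adj0 (f none) (f (vP q)) := (hadj _ _).2 trivial
    rw [hn] at h
    obtain ⟨x, hx⟩ := adj0_none h
    refine ⟨x, hx, ?_, fun e => ?_, fun e => ?_⟩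
    · have := hadj (vP 0) (vP q)
      rw [h0, hx] at this
      exact Madj_zero.symm.trans (this.trans Madj_zero)
    · subst e
      exact Sum.inl_injective (Option.some_injective _ (f.injective (hx.trans h0.symm)))
    · subst e
      exact (Sum.inl_injective (Option.some_injective _ (h0.symm.trans hx))).symm
  have hD := fix_D100 hcomm fun q hq => by
    obtain ⟨x, hx, hxd, -⟩ := himg q
    exact ⟨x, hxd.2 hq, hx⟩
  have hP : ∀ q, f (vP q) = vP q := by
    have two : ∀ q : Fin 416, labOf orbHLab q = 2 → f (vP q) = vP q := by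
      have l1 : labOf orbHLab ((1 : Fin 416) : ℕ) = 2 := by
        have h := (root_spec orbH_ok (k := 2) (by rw [roots_ok.2.1]; norm_num)).2
        rw [mE_facts.2.2.2.2.2.2.2.2] at h
        exact h
      obtain ⟨x, hx, hxd, hx0⟩ := himg 1
      have hx2 : labOf orbHLab x = 2 := by
        have h1 := lab_lt x
        have h2 : ¬ labOf orbHLab x = 1 := fun e => by
          have h3 : labOf orbHLab ((1 : Fin 416) : ℕ) = 1 := hxd.1 e
          omega
        have h4 : ¬ labOf orbHLab x = 0 := fun e => absurd (hx0.1 (h1.2 e)) (by decide)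
        omega
      have hx1 : x = 1 := pinB hx2 fun h hh h4 => by
        have := Equiv.ext_iff.1 (hcomm ⟨h, hh⟩).eq (vP 1)
        rw [Equiv.Perm.mul_apply, Equiv.Perm.mul_apply, hx, hatJ_vP, hatJ_vP,
          show ((⟨h, hh⟩ : Jp 0) : Equiv.Perm (Fin 416)) 1 = 1 from h4, hx] at this
        exact (Sum.inl_injective (Option.some_injective _ this)).symm
      subst hx1
      intro q hq
      obtain ⟨h, hh, e'⟩ := (J_orbit 1 q).2 (hq.trans l1.symm)
      have := Equiv.ext_iff.1 (hcomm ⟨h, hh⟩).eq (vP 1)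
      rw [Equiv.Perm.mul_apply, Equiv.Perm.mul_apply, hx, hatJ_vP,
        show ((⟨h, hh⟩ : Jp 0) : Equiv.Perm (Fin 416)) 1 = q from e'] at this
      exact this
    intro q
    rcases Nat.lt_or_ge (labOf orbHLab q) 1 with h | h
    · rw [(lab_lt q).2 (by omega), h0]
    · rcases Nat.lt_or_ge (labOf orbHLab q) 2 with h' | h'
      · exact hD q (show labOf orbHLab q = 1 by omega)
      · exact two q (by have := (lab_lt q).1; omega)
  refine Equiv.ext fun v => ?_
  match v with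
  | none => exact hn
  | some (Sum.inl q) => exact hP q
  | some (Sum.inr j) =>
    show f (vL j) = vL j
    rcases hv : f (vL j) with _ | x | k
    · exact absurd (f.injective (hn.trans hv.symm)) (by simp)
    · exact absurd (f.injective ((hP x).trans hv.symm)) (by simp)
    · refine congrArg vL (Fin.ext (lineSet_inj k.2 j.2 (Set.ext fun p => ?_)))
      have := hadj (vP p) (vL j)
      rw [hP, hv] at this
      exact this

/-- **The conjugation is not inner.** -/
theorem not_inner {R : Subgroup (Equiv.Perm V0)} (hR : IsModel R) {k : Equiv.Perm V0} (hk : k ∈ R)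
    (h0 : k none = vP 0) (h1 : k (vP 0) = none) (hcomm : ∀ h, Commute k (hatJ h)) : False := by
  have hD := fix_D100 hcomm fun q hq => by
    have h : adj0 (k (vP 0)) (k (vP q)) := (hR.adj k hk _ _).2 (Madj_zero.2 hq)
    rw [h1] at h
    obtain ⟨x, hx⟩ := adj0_none h
    have h' : adj0 (k none) (k (vP q)) := (hR.adj k hk _ _).2 trivial
    rw [h0, hx] at h'
    exact ⟨x, Madj_zero.1 h', hx⟩
  obtain ⟨r, hr, r0, r4⟩ := hR.swap 4
  have ri0 : r⁻¹ none = vP 4 := by rw [← r4, Equiv.Perm.inv_def, Equiv.symm_apply_apply]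
  have ri4 : r⁻¹ (vP 4) = none := by rw [← r0, Equiv.Perm.inv_def, Equiv.symm_apply_apply]
  have d4 := mE_facts.2.2.2.2.2.1
  have h : adj0 (r (vP 4)) (r (vP 0)) := (hR.adj r hr _ _).2 (Madj_symm (Madj_zero.2 d4))
  rw [r4] at h
  obtain ⟨q, hq⟩ := adj0_none h
  have h' : adj0 (r (vP 0)) (r none) := (hR.adj r hr _ _).2 trivial
  rw [hq, r0] at h'
  obtain ⟨m, hm, m0, m4⟩ : Madj q 4 := h'
  have hm' : ∀ x, hat ⟨m, hm⟩ (vP x) = vP (m x) := fun x => rfl
  have mi : ∀ x, (hat ⟨m, hm⟩)⁻¹ (vP (m x)) = vP x := fun x => by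
    rw [← hm', Equiv.Perm.inv_def, Equiv.symm_apply_apply]
  have hx : ∀ x, ((hat ⟨m, hm⟩)⁻¹ * r * k * r⁻¹ * hat ⟨m, hm⟩) x =
      (hat ⟨m, hm⟩)⁻¹ (r (k (r⁻¹ (hat ⟨m, hm⟩ x)))) := fun x => rfl
  obtain ⟨σ, hσ⟩ := hR.stab _ (mul_mem (mul_mem (mul_mem (mul_mem (inv_mem (hR.hat_mem ⟨m, hm⟩)) hr) hk)
    (inv_mem hr)) (hR.hat_mem ⟨m, hm⟩)) (by
      rw [hx, hat_none, ri0, hD 4 d4, r4]
      rw [Equiv.Perm.inv_def, Equiv.symm_apply_eq]
      rfl)
  have hval : ∀ x y, ((hat ⟨m, hm⟩)⁻¹ * r * k * r⁻¹ * hat ⟨m, hm⟩) (vP x) = vP y →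
      (σ : Equiv.Perm (Fin 416)) x = y := fun x y e => by
    rw [← hσ, hat_vP] at e
    exact Sum.inl_injective (Option.some_injective _ e)
  have s0 : (σ : Equiv.Perm (Fin 416)) 0 = 4 := hval _ _ (by
    rw [hx, hm', m0, ← hq, Equiv.Perm.inv_def r, Equiv.symm_apply_apply, h1, r0]
    conv_lhs => rw [← m4]
    exact mi 4)
  have s4 : (σ : Equiv.Perm (Fin 416)) 4 = 0 := hval _ _ (by
    rw [hx, hm', m4, ri4, h0, hq, ← m0]
    exact mi 0)
  have sfix : ∀ e, Madj 0 e → Madj 4 e → (σ : Equiv.Perm (Fin 416)) e = e := fun e e0 e4 => hval _ _ (by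
    rw [hx, hm']
    obtain ⟨x, hxe⟩ : ∃ x, r⁻¹ (vP (m e)) = vP x := by
      refine adj0_none ((hR.adj r hr _ _).1 ?_)
      rw [r0, Equiv.Perm.inv_def, Equiv.apply_symm_apply]
      show Madj 4 (m e)
      rw [← m4]; exact Madj_smul hm e4
    have hxD : x ∈ D100 := Madj_zero.1 (by
      refine (hR.adj r hr (vP 0) (vP x)).1 ?_
      rw [hq, ← hxe, Equiv.Perm.inv_def, Equiv.apply_symm_apply]
      show Madj q (m e)
      rw [← m0]; exact Madj_smul hm e0)
    rw [hxe, hD x hxD, ← hxe, Equiv.Perm.inv_def r, Equiv.apply_symm_apply]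
    exact mi e)
  obtain ⟨-, -, -, i5, i6, -, d5, d6, -⟩ := mE_facts
  exact no_swap σ.2 s0 s4 (sfix 5 (Madj_zero.2 d5) (Madj_four i5)) (sfix 6 (Madj_zero.2 d6) (Madj_four i6))

/-- The point stabiliser is J₂. -/
theorem J0_equiv : Nonempty (Jp 0 ≃* J2.P100) := by
  obtain ⟨H, -, ⟨e⟩, -⟩ := G24J2.main (MulEquiv.refl M)
  let f : H ≃* J2.P100 := e.trans J2.j2Equiv
  let g : H ≃* H.map M.subtype := H.equivMapOfInjective M.subtype M.subtype_injective
  have hc : Nat.card (H.map M.subtype) = 604800 :=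
    ((Nat.card_congr g.toEquiv).symm.trans (Nat.card_congr f.toEquiv)).trans J2.card_G100
  obtain ⟨p, hp⟩ := exists_Jp (Subgroup.map_subtype_le H) hc
  obtain ⟨σ, hσ, hσp⟩ := M_trans p 0
  have hJ : (Jp p).map (MulAut.conj σ).toMonoidHom = Jp 0 := by
    refine Subgroup.eq_of_le_of_card_ge ?_ (le_of_eq ?_)
    · rintro _ ⟨x, ⟨hx, hxp⟩, rfl⟩
      refine ⟨show σ * x * σ⁻¹ ∈ M from mul_mem (mul_mem hσ hx) (inv_mem hσ), ?_⟩
      show (σ * x * σ⁻¹) 0 = 0
      rw [Equiv.Perm.mul_apply, Equiv.Perm.mul_apply, ← hσp, Equiv.Perm.inv_def,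
        Equiv.symm_apply_apply, show x p = p from hxp]
    · rw [card_Jp, ← Nat.card_congr ((Jp p).equivMapOfInjective _ (MulAut.conj σ).injective).toEquiv,
        card_Jp]
  exact ⟨((MulEquiv.subgroupCongr hJ).symm.trans
    (((Jp p).equivMapOfInjective _ (MulAut.conj σ).injective).symm.trans
      ((MulEquiv.subgroupCongr hp).symm.trans (g.symm.trans f))))⟩

theorem card_out_congr {A B : Type*} [Group A] [Group B] (e : A ≃* B) :
    Nat.card (Out A) = Nat.card (Out B) := by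
  have hI : Inn A = (Inn B).comap (MulAut.congr e).toMonoidHom := by
    ext φ
    constructor
    · rintro ⟨g, rfl⟩
      exact ⟨e g, MulEquiv.ext fun a => by simp [MulAut.congr]⟩
    · rintro ⟨g, hg⟩
      refine ⟨e.symm g, MulEquiv.ext fun a => ?_⟩
      have h := DFunLike.congr_fun hg (e a)
      simp [MulAut.congr] at h
      apply e.injective
      simp [h]
  show Nat.card (MulAut A ⧸ Inn A) = Nat.card (MulAut B ⧸ Inn B)
  rw [← Subgroup.index_eq_card, hI, Subgroup.index_comap_of_surjective _ (MulAut.congr e).surjective,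
    Subgroup.index_eq_card]

/-- The swapping elements of two models agree modulo the stabiliser. -/
theorem IsModel.swap_eq {R R' : Subgroup (Equiv.Perm V0)} (hR : IsModel R) (hR' : IsModel R')
    {t t' : Equiv.Perm V0} (ht : t ∈ R) (h0 : t none = vP 0) (h1 : t (vP 0) = none)
    (ht' : t' ∈ R') (h0' : t' none = vP 0) (h1' : t' (vP 0) = none) : t' ∈ R := by
  obtain ⟨eJ⟩ := J0_equiv
  have hcard : Nat.card (Out (Jp 0)) = 2 := (card_out_congr eJ).trans J2.card_out
  obtain ⟨α, hα⟩ := exists_aut hR ht h0 h1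
  obtain ⟨α', hα'⟩ := exists_aut hR' ht' h0' h1'
  have hne : ∀ {R : Subgroup (Equiv.Perm V0)}, IsModel R → ∀ {t : Equiv.Perm V0}, t ∈ R →
      t none = vP 0 → t (vP 0) = none → ∀ {α : MulAut (Jp 0)},
      (∀ h, hatJ (α h) = t * hatJ h * t⁻¹) → (QuotientGroup.mk α : Out (Jp 0)) ≠ 1 := by
    intro R hR t ht h0 h1 α hα hmem
    obtain ⟨j, hj⟩ := (QuotientGroup.eq_one_iff α).1 hmem
    refine not_inner hR (k := (hatJ j)⁻¹ * t) (mul_mem (inv_mem (hR.hatJ_mem j)) ht) ?_ ?_ fun h => ?_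
    · rw [Equiv.Perm.mul_apply, h0, Equiv.Perm.inv_def, Equiv.symm_apply_eq, hatJ_zero]
    · rw [Equiv.Perm.mul_apply, h1, Equiv.Perm.inv_def, Equiv.symm_apply_eq, hatJ_none]
    · have e := hα h
      rw [← hj, MulAut.conj_apply, map_mul, map_mul, map_inv] at e
      show (hatJ j)⁻¹ * t * hatJ h = hatJ h * ((hatJ j)⁻¹ * t)
      calc (hatJ j)⁻¹ * t * hatJ h = (hatJ j)⁻¹ * (t * hatJ h * t⁻¹) * t := by group
        _ = hatJ h * ((hatJ j)⁻¹ * t) := by rw [← e]; group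
  have h1ne := hne hR ht h0 h1 hα
  have h2ne := hne hR' ht' h0' h1' hα'
  obtain ⟨y, -, huniq⟩ := (Nat.card_eq_two_iff' (1 : Out (Jp 0))).1 hcard
  have heq : (QuotientGroup.mk α : Out (Jp 0)) = QuotientGroup.mk α' :=
    (huniq _ h1ne).trans (huniq _ h2ne).symm
  obtain ⟨j, hj⟩ := QuotientGroup.eq.1 heq
  have hc : ∀ h, t' * hatJ h * t'⁻¹ = t * (hatJ j * hatJ h * (hatJ j)⁻¹) * t⁻¹ := fun h => by
    rw [← hα', ← map_inv hatJ j, ← map_mul hatJ, ← map_mul hatJ, ← hα, ← MulAut.conj_apply j h, hj,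
      MulAut.mul_apply, MulAut.apply_inv_self]
  have ti : t⁻¹ none = vP 0 ∧ t⁻¹ (vP 0) = none := by
    constructor
    · rw [← h1, Equiv.Perm.inv_def, Equiv.symm_apply_apply]
    · rw [← h0, Equiv.Perm.inv_def, Equiv.symm_apply_apply]
  have hf : (hatJ j)⁻¹ * t⁻¹ * t' = 1 := by
    refine pin (fun x y => ?_) ?_ ?_ fun h => ?_
    · rw [Equiv.Perm.mul_apply, Equiv.Perm.mul_apply,
        Equiv.Perm.mul_apply ((hatJ j)⁻¹ * t⁻¹) t', Equiv.Perm.mul_apply,
        hR.adj _ (inv_mem (hR.hatJ_mem j)), hR.adj _ (inv_mem ht), hR'.adj _ ht']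
    · rw [Equiv.Perm.mul_apply, h0', Equiv.Perm.mul_apply, ti.2, Equiv.Perm.inv_def,
        Equiv.symm_apply_eq, hatJ_none]
    · rw [Equiv.Perm.mul_apply, h1', Equiv.Perm.mul_apply, ti.1, Equiv.Perm.inv_def,
        Equiv.symm_apply_eq, hatJ_zero]
    · show (hatJ j)⁻¹ * t⁻¹ * t' * hatJ h = hatJ h * ((hatJ j)⁻¹ * t⁻¹ * t')
      calc (hatJ j)⁻¹ * t⁻¹ * t' * hatJ h = (hatJ j)⁻¹ * t⁻¹ * (t' * hatJ h * t'⁻¹) * t' := by group
        _ = hatJ h * ((hatJ j)⁻¹ * t⁻¹ * t') := by rw [hc]; group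
  rw [show t' = t * hatJ j * ((hatJ j)⁻¹ * t⁻¹ * t') by group, hf, mul_one]
  exact mul_mem ht (hR.hatJ_mem j)

/-- **Uniqueness.** -/
theorem IsModel.eq {R R' : Subgroup (Equiv.Perm V0)} (hR : IsModel R) (hR' : IsModel R') : R = R' := by
  suffices key : ∀ {R R' : Subgroup (Equiv.Perm V0)}, IsModel R → IsModel R' → R ≤ R' from
    le_antisymm (key hR hR') (key hR' hR)
  intro R R' hR hR'
  obtain ⟨t, ht, h0, h1⟩ := hR.swap 0
  obtain ⟨t', ht', h0', h1'⟩ := hR'.swap 0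
  have htR' : t ∈ R' := hR'.swap_eq hR ht' h0' h1' ht h0 h1
  have hQt : t ∈ R ⊓ R' := ⟨ht, htR'⟩
  have hQh : ∀ σ, hat σ ∈ R ⊓ R' := fun σ => ⟨hR.hat_mem σ, hR'.hat_mem σ⟩
  have hP : ∀ p, ∃ r ∈ R ⊓ R', r none = vP p := fun p => by
    obtain ⟨σ, hσ, e⟩ := M_trans 0 p
    refine ⟨hat ⟨σ, hσ⟩ * t, mul_mem (hQh _) hQt, ?_⟩
    rw [Equiv.Perm.mul_apply, h0, hat_vP]
    exact congrArg vP e
  have hL : ∀ j, ∃ r ∈ R ⊓ R', r none = vL j := fun j => by
    obtain ⟨i, hi⟩ := exists_line_through 0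
    obtain ⟨p, hp⟩ : ∃ p, t⁻¹ (vL i) = vP p := by
      refine adj0_none ((hR.adj t ht _ _).1 ?_)
      rw [h0, Equiv.Perm.inv_def, Equiv.apply_symm_apply]
      exact hi
    obtain ⟨σ, hσ, e⟩ := M_lines i.2 j.2
    obtain ⟨r, hr, er⟩ := hP p
    refine ⟨hat ⟨σ, hσ⟩ * t * r, mul_mem (mul_mem (hQh _) hQt) hr, ?_⟩
    rw [Equiv.Perm.mul_apply, Equiv.Perm.mul_apply, er, ← hp, Equiv.Perm.inv_def, Equiv.apply_symm_apply,
      hat_vL, lineImg_eq (σ := ⟨σ, hσ⟩) (j := i) (k := j) e]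
  have htrans : ∀ v, ∃ r ∈ R ⊓ R', r none = v
    | none => ⟨1, one_mem _, rfl⟩
    | some (Sum.inl p) => hP p
    | some (Sum.inr j) => hL j
  intro r hr
  obtain ⟨s, hs, e⟩ := htrans (r none)
  obtain ⟨σ, hσ⟩ := hR.stab _ (mul_mem (inv_mem hs.1) hr)
    (by rw [Equiv.Perm.mul_apply, ← e, Equiv.Perm.inv_def, Equiv.symm_apply_apply])
  rw [show r = s * (s⁻¹ * r) by group, ← hσ]
  exact mul_mem hs.2 (hR'.hat_mem σ)

end Cfsg.Agent.SuzRec
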