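import Cfsg.Agent.Lib.SuzRec.LinesDefs
import Cfsg.Agent.Lib.SuzRec.Fast

/-! Kernel checks: suborbits, fixed points and the swapping test. -/

set_option autoImplicit false
set_option maxRecDepth 100000
set_option Elab.async false

namespace Cfsg.Agent.SuzRec

open Cfsg.Agent.PermCert Cfsg.Agent.G24J2

theorem mE_ok : (allIn [mE] && Nat.beq (get 9 mE.1 0) 4 && Nat.beq (labOf orbHLab (get 9 mE.2 0)) 1 &&
    Nat.beq (labOf orbHLab (get 9 mE.2 5)) 1 && Nat.beq (labOf orbHLab (get 9 mE.2 6)) 1 &&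
    Nat.beq (labOf orbHLab 4) 1 && Nat.beq (labOf orbHLab 5) 1 && Nat.beq (labOf orbHLab 6) 1 &&
    (orbHRoots == [0, 4, 1]) && Nat.beq (orbARoots.getD 0 0) 4 && Nat.beq (orbBRoots.getD 0 0) 1) = true := by
  decide +kernel

theorem pins_ok : allBelow (fun x =>
    (!Nat.beq (labOf orbHLab x) 1 || Nat.beq x 4 ||
      orbAGens.any fun e => !Nat.beq (get 9 e.1 x) x) &&
    (!Nat.beq (labOf orbHLab x) 2 || Nat.beq x 1 ||
      orbBGens.any fun e => !Nat.beq (get 9 e.1 x) x)) 416 = true := by decide +kernel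

theorem subdeg_ok : (Nat.beq (cnt (fun x => Nat.beq (labOf orbHLab x) 1) 416) 100 &&
    Nat.beq (cnt (fun x => Nat.beq (labOf orbHLab x) 2) 416) 315) = true := by decide +kernel

theorem w_ok : (srch 9 9 [] g24Levels labs [] [(0, 4), (4, 0), (5, 5), (6, 6)]).isEmpty = true := by
  rw [← srchFast_eq]
  decide +kernel

theorem sb_moves : all1365 (fun j => Nat.beq j 0 ||
    sbPerms.any fun p => !Nat.beq (get 11 p j) j) = true := by decide +kernel

theorem sb_meet : allBelow (fun k => decide (Nat.beq (cnt (fun x => Nat.testBit (lineMask 0) x &&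
    Nat.testBit (lineMask (sbLineRoots.getD k 0)) x) 416) 24 = Nat.beq k 2)) 4 = true := by decide +kernel

theorem sb_sums : (Nat.beq (lineSum sbLineLab 4) 320 &&
    allBelow (fun m => Nat.testBit m 0 || !Nat.beq (lineSum sbLineLab m) 320 || Nat.beq m 4) 16) = true := by
  decide +kernel

end Cfsg.Agent.SuzRec
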