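import Cfsg.Agent.Lib.SuzRec.Lines
import Mathlib.GroupTheory.Sylow

/-! The subgroups of order 184320 with an invariant 96-set. -/

set_option autoImplicit false
set_option maxRecDepth 20000

namespace Cfsg.Agent.SuzRec

open Cfsg.Agent.PermCert Cfsg.Agent.G24J2
open scoped Pointwise

attribute [local irreducible] lineRows maskRows g24Gens sylGens sbGens g5Gens linePerm0 linePerm1
  sylPerms sbPerms g5Perms maskOrd maskRank lineOrd lineRank linePar fivesCode fiveOrd fiveRank fivePar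
  sylLineLab sylLineOrd sylLineRank sylLinePar sbLineLab sbLineOrd sbLineRank sbLinePar sbPtLab sbPtTree
  g5PtLab g5PtTree sylDerived sylLevels

/-- The stabiliser of one of the sets. -/
def StL (j : ℕ) : Subgroup (Equiv.Perm (Fin 416)) :=
  M ⊓ MulAction.stabilizer (Equiv.Perm (Fin 416)) (lineSet j)

theorem mem_StL {j : ℕ} {σ : Equiv.Perm (Fin 416)} :
    σ ∈ StL j ↔ σ ∈ M ∧ σ • lineSet j = lineSet j := Iff.rfl

/-- One of the images of the five sets. -/
def fiveSet (i : ℕ) : Set (Set (Fin 416)) :=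
  Set.range fun s : Fin 5 => lineSet (get 11 (fiveAt i) s)

theorem card_stab_M {X : Type*} [MulAction (Equiv.Perm (Fin 416)) X] (x : X) :
    Nat.card (M ⊓ MulAction.stabilizer (Equiv.Perm (Fin 416)) x : Subgroup _) *
      (MulAction.orbit M x).ncard = 251596800 := by
  have h0 := Subgroup.card_mul_index (MulAction.stabilizer M x)
  rw [MulAction.index_stabilizer, card_M] at h0
  have e : MulAction.stabilizer M x =
      (M ⊓ MulAction.stabilizer (Equiv.Perm (Fin 416)) x).subgroupOf M := by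
    ext ⟨σ, hσ⟩
    exact ⟨fun h => ⟨hσ, h⟩, fun h => h.2⟩
  rw [e, Nat.card_congr (Subgroup.subgroupOfEquivOfLe
    (show M ⊓ MulAction.stabilizer (Equiv.Perm (Fin 416)) x ≤ M from inf_le_left)).toEquiv] at h0
  exact h0

theorem orbit_lineSet {j : ℕ} (hj : j < 1365) :
    MulAction.orbit M (lineSet j) = Set.range fun k : Fin 1365 => lineSet k := by
  ext S
  constructor
  · rintro ⟨⟨σ, hσ⟩, rfl⟩
    obtain ⟨b, hb, e⟩ := M_lines_closed hσ hj
    exact ⟨⟨b, hb⟩, e.symm⟩
  · rintro ⟨k, rfl⟩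
    obtain ⟨σ, hσ, e⟩ := M_lines hj k.2
    exact ⟨⟨σ, hσ⟩, e⟩

theorem card_StL {j : ℕ} (hj : j < 1365) : Nat.card (StL j) = 184320 := by
  have h := card_stab_M (lineSet j)
  rw [orbit_lineSet hj, Set.ncard_range_of_injective (f := fun k : Fin 1365 => lineSet k)
    (fun a b e => Fin.ext (lineSet_inj a.2 b.2 e)), Nat.card_fin] at h
  show Nat.card (M ⊓ MulAction.stabilizer (Equiv.Perm (Fin 416)) (lineSet j) : Subgroup _) = _
  omega

theorem five_spec {i : ℕ} (hi : i < 1365) :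
    (∀ s < 5, get 11 (fiveAt i) s < 1365) ∧
      (∀ s < 4, get 11 (fiveAt i) s < get 11 (fiveAt i) (s + 1)) ∧
      (0 < i → ∃ k < i, ∃ σ ∈ M, σ • fiveSet k = fiveSet i) := by
  have h := fives_ok
  rw [Bool.and_eq_true] at h
  have := all1365_spec _ h.1 i hi
  simp only [fiveTest, Bool.and_eq_true, Bool.or_eq_true, Nat.beq_eq, Nat.blt_eq] at this
  obtain ⟨hs, hp⟩ := this
  have hs' : ∀ s < 5, get 11 (fiveAt i) s < 1365 ∧
      (s < 4 → get 11 (fiveAt i) s < get 11 (fiveAt i) (s + 1)) := fun s hs5 => by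
    have := allBelow_spec _ _ hs s hs5
    simp only [Bool.and_eq_true, Bool.or_eq_true, Nat.blt_eq, Nat.ble_eq] at this
    exact ⟨this.1, fun h' => this.2.resolve_left (by omega)⟩
  refine ⟨fun s h5 => (hs' s h5).1, fun s h4 => (hs' s (by omega)).2 h4, fun hi0 => ?_⟩
  obtain ⟨⟨hk, hc⟩, hstep⟩ := hp.resolve_left (by omega)
  set k := get 16 fivePar i / 8
  set c := get 16 fivePar i % 8
  obtain ⟨hmem, hgen⟩ := imgAll_spec img_M.1 img_M.2
  obtain ⟨e, he, hej⟩ := hgen c (by simpa [linePerms] using hc)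
  have hk' := all1365_spec _ h.1 k (by omega)
  simp only [fiveTest, Bool.and_eq_true] at hk'
  have hks : ∀ s : Fin 5, get 11 (fiveAt k) s < 1365 := fun s => by
    have := allBelow_spec _ _ hk'.1 s s.2
    simp only [Bool.and_eq_true, Nat.blt_eq] at this
    exact this.1
  refine ⟨k, hk, toPerm 9 416 e, mem_genGroup_toPerm he, ?_⟩
  refine Set.eq_of_subset_of_ncard_le ?_ ?_
  · rintro _ ⟨_, ⟨s, rfl⟩, rfl⟩
    obtain ⟨t, ht, htt⟩ := List.any_eq_true.1 (allBelow_spec _ _ hstep s s.2)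
    refine ⟨⟨t, List.mem_range.1 ht⟩, ?_⟩
    show lineSet (get 11 (fiveAt i) t) = toPerm 9 416 e • lineSet (get 11 (fiveAt k) s)
    rw [(hej _ (hks s)).2, Nat.eq_of_beq_eq_true htt]
  · have hinj : ∀ (m : ℕ), (∀ s < 5, get 11 (fiveAt m) s < 1365) →
        (∀ s < 4, get 11 (fiveAt m) s < get 11 (fiveAt m) (s + 1)) → (fiveSet m).ncard = 5 := by
      intro m hlt hmono
      rw [fiveSet, Set.ncard_range_of_injective, Nat.card_fin]
      intro a b e'
      have e2 := lineSet_inj (hlt a a.2) (hlt b b.2) e'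
      have hm : StrictMono fun s : Fin 5 => get 11 (fiveAt m) s :=
        Fin.strictMono_iff_lt_succ.2 fun s => hmono s s.2
      exact hm.injective e2
    have hks2 : ∀ s < 4, get 11 (fiveAt k) s < get 11 (fiveAt k) (s + 1) := fun s h4 => by
      have := allBelow_spec _ _ hk'.1 s (by omega)
      simp only [Bool.and_eq_true, Bool.or_eq_true, Nat.blt_eq, Nat.ble_eq] at this
      exact this.2.resolve_left (by omega)
    rw [Set.ncard_smul_set, hinj i (fun s h5 => (hs' s h5).1) (fun s h4 => (hs' s (by omega)).2 h4),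
      hinj k (fun s h5 => hks ⟨s, h5⟩) hks2]

theorem fiveSet_mem_orbit : ∀ i, i < 1365 → fiveSet i ∈ MulAction.orbit M (fiveSet 0) := by
  intro i
  induction i using Nat.strong_induction_on with
  | _ i ih =>
    intro hi
    rcases Nat.eq_zero_or_pos i with rfl | hpos
    · exact MulAction.mem_orbit_self _
    · obtain ⟨k, hk, σ, hσ, e⟩ := (five_spec hi).2.2 hpos
      obtain ⟨τ, hτ⟩ := ih k hk (by omega)
      exact ⟨⟨σ, hσ⟩ * τ, by rw [← e, ← hτ]; exact mul_smul _ _ _⟩

theorem fiveAt_pack (i : ℕ) : fiveAt i = get 11 (fiveAt i) 0 + 2 ^ 11 * get 11 (fiveAt i) 1 +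
    2 ^ 22 * get 11 (fiveAt i) 2 + 2 ^ 33 * get 11 (fiveAt i) 3 + 2 ^ 44 * get 11 (fiveAt i) 4 := by
  have : fiveAt i < 2 ^ 55 := get_lt 55 _ _
  simp only [PermCert.get, Nat.shiftRight_eq_div_pow]
  norm_num
  omega

theorem fiveSet_inj {a b : ℕ} (ha : a < 1365) (hb : b < 1365) (e : fiveSet a = fiveSet b) : a = b := by
  have h := fives_ok
  rw [Bool.and_eq_true] at h
  refine ordTest_inj h.2 ha hb ?_
  obtain ⟨la, ma, -⟩ := five_spec ha
  obtain ⟨lb, mb, -⟩ := five_spec hb
  have hsm : StrictMono fun s : Fin 5 => get 11 (fiveAt a) s :=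
    Fin.strictMono_iff_lt_succ.2 fun s => ma s s.2
  have hsb : StrictMono fun s : Fin 5 => get 11 (fiveAt b) s :=
    Fin.strictMono_iff_lt_succ.2 fun s => mb s s.2
  have hr : Set.range (fun s : Fin 5 => get 11 (fiveAt a) s) =
      Set.range fun s : Fin 5 => get 11 (fiveAt b) s := by
    have key : ∀ {p q : ℕ}, (∀ s < 5, get 11 (fiveAt p) s < 1365) →
        (∀ s < 5, get 11 (fiveAt q) s < 1365) → fiveSet p = fiveSet q →
        Set.range (fun s : Fin 5 => get 11 (fiveAt p) s) ⊆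
          Set.range fun s : Fin 5 => get 11 (fiveAt q) s := by
      rintro p q hp hq hpq _ ⟨s, rfl⟩
      obtain ⟨t, ht⟩ : lineSet (get 11 (fiveAt p) s) ∈ fiveSet q := by
        rw [← hpq]; exact Set.mem_range_self s
      exact ⟨t, lineSet_inj (hq t t.2) (hp s s.2) ht⟩
    exact Set.Subset.antisymm (key la lb e) (key lb la e.symm)
  have hfun := (StrictMono.range_inj hsm hsb).1 hr
  rw [fiveAt_pack a, fiveAt_pack b]
  have := fun s : Fin 5 => congrFun hfun s
  rw [show get 11 (fiveAt a) 0 = get 11 (fiveAt b) 0 from this 0,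
    show get 11 (fiveAt a) 1 = get 11 (fiveAt b) 1 from this 1,
    show get 11 (fiveAt a) 2 = get 11 (fiveAt b) 2 from this 2,
    show get 11 (fiveAt a) 3 = get 11 (fiveAt b) 3 from this 3,
    show get 11 (fiveAt a) 4 = get 11 (fiveAt b) 4 from this 4]

/-- The stabiliser of five sets is small. -/
theorem card_five_le :
    Nat.card (M ⊓ MulAction.stabilizer (Equiv.Perm (Fin 416)) (fiveSet 0) : Subgroup _) ≤ 184320 := by
  have h := card_stab_M (fiveSet 0)
  have h2 : 1365 ≤ (MulAction.orbit M (fiveSet 0)).ncard := by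
    refine le_trans ?_ (Set.ncard_le_ncard
      (show Set.range (fun i : Fin 1365 => fiveSet i) ⊆ MulAction.orbit M (fiveSet 0) from ?_))
    · rw [Set.ncard_range_of_injective (f := fun i : Fin 1365 => fiveSet i)
        (fun a b e => Fin.ext (fiveSet_inj a.2 b.2 e)), Nat.card_fin]
    · rintro _ ⟨i, rfl⟩
      exact fiveSet_mem_orbit i i.2
  by_contra hne
  have := Nat.mul_le_mul (Nat.lt_of_not_le hne) h2
  omega

theorem classes_set {es : List Elt} {roots : List ℕ} {tree : List (ℕ × ℕ × ℕ)} {lab : ℕ}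
    (h : orbOK 9 416 es roots tree lab = true) (hlen : roots.length = 2)
    (hlab : ∀ x : Fin 416, labOf lab x < 2) {S : Set (Fin 416)}
    (hS : ∀ e ∈ es, toPerm 9 416 e • S = S) :
    ∃ m < 4, S = {x : Fin 416 | Nat.testBit m (labOf lab x) = true} := by
  classical
  have hinv : ∀ σ ∈ genGroup 9 416 es, σ • S = S := fun σ hσ => by
    have : genGroup 9 416 es ≤ MulAction.stabilizer (Equiv.Perm (Fin 416)) S :=
      (Subgroup.closure_le _).2 fun τ hτ => by
        obtain ⟨e, he, rfl⟩ := List.mem_map.1 hτ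
        exact hS e he
    exact this hσ
  let r : Fin 2 → Fin 416 := fun k => ⟨roots.getD k 0, (root_spec h (by rw [hlen]; exact k.2)).1⟩
  refine ⟨Nat.ofBits fun k : Fin 2 => decide (r k ∈ S), Nat.ofBits_lt_two_pow _, ?_⟩
  ext x
  have hx := hlab x
  obtain ⟨σ, hσ, e⟩ := exists_from_root h x (r ⟨_, hx⟩) (hlen ▸ hx) rfl
  rw [Set.mem_ofPred_eq, Nat.testBit_ofBits_lt _ _ hx, decide_eq_true_eq]
  generalize r ⟨labOf lab x, hx⟩ = y at e ⊢
  subst e
  conv_lhs => rw [← hinv σ hσ]
  exact Set.smul_mem_smul_set_iff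

/-- The main case: the Sylow 2-subgroup fixing the first set lies in the subgroup. -/
theorem case_syl {A : Subgroup (Equiv.Perm (Fin 416))} (hA : A ≤ M) (hcard : Nat.card A = 184320)
    (hU : genGroup 9 416 sylGens ≤ A) {S : Set (Fin 416)} (hS : S.ncard = 96)
    (hinv : ∀ σ ∈ A, σ • S = S) : S = lineSet 0 ∧ A = StL 0 := by
  classical
  have hg := gens_in
  simp only [Bool.and_eq_true] at hg
  obtain ⟨⟨hgu, hgb⟩, hg5⟩ := hg
  have hvu : ∀ e ∈ sylGens, validElt 9 416 e = true := (word_mem hgu).1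
  have hvb : ∀ e ∈ sbGens, validElt 9 416 e = true := (word_mem hgb).1
  have hv5 : ∀ e ∈ g5Gens, validElt 9 416 e = true := (word_mem hg5).1
  have hmem : ∀ {es : List Elt}, allIn es = true → ∀ e ∈ es, toPerm 9 416 e ∈ M := fun {es} h e he =>
    (code_mem (List.all_eq_true.1 h e he)).2
  have hfix := fixes_ok
  simp only [Bool.and_eq_true, List.all_eq_true, Nat.beq_eq] at hfix
  obtain ⟨⟨⟨hfu, hfb⟩, hf5⟩, hfive⟩ := hfix
  have hUfix : genGroup 9 416 sylGens ≤ MulAction.stabilizer (Equiv.Perm (Fin 416)) (lineSet 0) :=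
    (Subgroup.closure_le _).2 fun σ hσ => by
      obtain ⟨e, he, rfl⟩ := List.mem_map.1 hσ
      obtain ⟨p, hp, hpj⟩ := (imgAll_spec sylImg_ok hvu).1 e he
      have := (hpj 0 (by norm_num)).2
      rw [hfu p hp] at this
      exact this
  -- the orbit of the first set
  let O : Set (Fin 1365) := {a | ∃ σ ∈ A, σ • lineSet 0 = lineSet a}
  have hO : (MulAction.orbit A (lineSet 0)) = (fun a : Fin 1365 => lineSet a) '' O := by
    ext T
    constructor
    · rintro ⟨⟨σ, hσ⟩, rfl⟩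
      obtain ⟨b, hb, e⟩ := M_lines_closed (hA hσ) (show 0 < 1365 by norm_num)
      exact ⟨⟨b, hb⟩, ⟨σ, hσ, e⟩, e.symm⟩
    · rintro ⟨a, ⟨σ, hσ, e⟩, rfl⟩
      exact ⟨⟨σ, hσ⟩, e⟩
  have hOcard : O.ncard ∣ 45 := by
    have h1 : (MulAction.orbit A (lineSet 0)).ncard = O.ncard := by
      rw [hO, Set.ncard_image_of_injective _ fun a b e => Fin.ext (lineSet_inj a.2 b.2 e)]
    have h2 := Subgroup.card_mul_index (MulAction.stabilizer A (lineSet 0))
    rw [MulAction.index_stabilizer, hcard, h1] at h2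
    have h3 : (genGroup 9 416 sylGens).subgroupOf A ≤ MulAction.stabilizer A (lineSet 0) :=
      fun x hx => hUfix (Subgroup.mem_subgroupOf.1 hx)
    have h4 := Subgroup.card_dvd_of_le h3
    rw [Nat.card_congr (Subgroup.subgroupOfEquivOfLe hU).toEquiv, cert_card syl_cert, syl_order] at h4
    obtain ⟨c, hc⟩ := h4
    rw [hc, mul_assoc, show 184320 = 4096 * 45 by norm_num] at h2
    exact ⟨c, by rw [mul_comm]; exact (Nat.eq_of_mul_eq_mul_left (by norm_num) h2).symm⟩
  have hsc := syl_class_ok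
  simp only [Bool.and_eq_true, Nat.beq_eq] at hsc
  have hsf : ∀ a : Fin 1365, labOf sylLineLab a < 6 ∧ (Nat.testBit 3 (labOf sylLineLab a) = true ↔
      ∃ t < 5, (a : ℕ) = get 11 (fiveAt 0) t) := fun a => by
    have := all1365_spec _ syl_five a a.2
    simp only [Bool.and_eq_true, decide_eq_true_eq, Nat.blt_eq] at this
    refine ⟨this.2, ?_⟩
    rw [this.1, List.any_eq_true]
    simp only [List.mem_range, Nat.beq_eq]
  let r : Fin 6 → Fin 1365 := fun k => ⟨sylLineRoots.getD k 0, by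
    have h := hsc.1
    simp only [classTest, Bool.and_eq_true] at h
    have := allBelow_spec _ _ h.1.2 k (by rw [hsc.2]; exact k.2)
    simp only [Bool.and_eq_true, Nat.blt_eq] at this
    exact this.1.1⟩
  let m := Nat.ofBits fun k : Fin 6 => decide (r k ∈ O)
  have hOeq : O = {a : Fin 1365 | Nat.testBit m (labOf sylLineLab a) = true} := by
    ext a
    have hl := (hsf a).1
    show _ ↔ (Nat.ofBits fun k : Fin 6 => decide (r k ∈ O)).testBit (labOf sylLineLab a) = true
    rw [Nat.testBit_ofBits_lt _ _ hl, decide_eq_true_eq]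
    obtain ⟨-, -, σ, hσ, e⟩ := class_reach hvu sylImg_ok hsc.1 a.2
    constructor
    · rintro ⟨τ, hτ, e'⟩
      refine ⟨σ⁻¹ * τ, A.mul_mem (A.inv_mem (hU hσ)) hτ, ?_⟩
      rw [mul_smul, e', ← e, inv_smul_smul]
    · rintro ⟨τ, hτ, e'⟩
      refine ⟨σ * τ, A.mul_mem (hU hσ) hτ, ?_⟩
      rw [mul_smul, e', ← e]
  have hsum : lineSum sylLineLab m = O.ncard := by
    rw [lineSum, hOeq, cnt_eq_ncard]
  have hm0 : m.testBit 0 = true := by
    have h := hsc.1
    simp only [classTest, Bool.and_eq_true] at h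
    have := allBelow_spec _ _ h.1.2 0 (by omega)
    simp only [Bool.and_eq_true, Nat.beq_eq] at this
    have h0 : (0 : Fin 1365) ∈ O := ⟨1, A.one_mem, one_smul _ _⟩
    rw [hOeq, Set.mem_ofPred_eq] at h0
    have hl0 : labOf sylLineLab 0 = 0 := by
      have : (sylLineRoots.getD 0 0 == 0 && Nat.beq (labOf sylLineLab 0) 0) = true := by decide +kernel
      rw [Bool.and_eq_true, Nat.beq_eq] at this
      exact this.2
    simpa [hl0] using h0
  have hm := allBelow_spec _ _ syl_sums m (Nat.ofBits_lt_two_pow _)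
  simp only [hm0, hsum, Nat.mod_eq_zero_of_dvd hOcard, Bool.not_true, Bool.false_or, Bool.or_eq_true,
    Nat.beq_eq, Bool.not_eq_true', Bool.eq_false_iff, ne_eq, not_true, false_or] at hm
  rcases hm with hm | hm
  · -- the first set is fixed
    have hAle : A ≤ StL 0 := fun σ hσ => by
      obtain ⟨b, hb, e⟩ := M_lines_closed (hA hσ) (show 0 < 1365 by norm_num)
      have hb' : (⟨b, hb⟩ : Fin 1365) ∈ O := ⟨σ, hσ, e⟩
      rw [hOeq, Set.mem_ofPred_eq, hm, Nat.testBit_one_eq_true_iff_self_eq_zero] at hb'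
      have hb3 := (hsf ⟨b, hb⟩).2.1 (by rw [hb']; decide)
      have : b = 0 := by
        obtain ⟨-, hl, τ, hτ, eτ⟩ := class_reach hvu sylImg_ok hsc.1 hb
        have h0 : sylLineRoots.getD 0 0 = 0 := by decide +kernel
        rw [show labOf sylLineLab b = 0 from hb', h0,
          show τ • lineSet 0 = lineSet 0 from hUfix hτ] at eτ
        exact lineSet_inj hb (by norm_num) eτ.symm
      subst this
      exact ⟨hA hσ, e⟩
    have heq := Subgroup.eq_of_le_of_card_ge hAle (by rw [card_StL (by norm_num), hcard])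
    refine ⟨?_, heq⟩
    have hS' : ∀ e ∈ sbGens, toPerm 9 416 e • S = S := fun e he => hinv _ (heq ▸ by
      refine ⟨hmem hgb e he, ?_⟩
      obtain ⟨p, hp, hpj⟩ := (imgAll_spec sbImg_ok hvb).1 e he
      have := (hpj 0 (by norm_num)).2
      rw [hfb p hp] at this
      exact this)
    have hp := sbPt_sums
    simp only [Bool.and_eq_true, Nat.beq_eq] at hp
    have hl : ∀ x : Fin 416, Nat.beq (labOf sbPtLab x) 0 = Nat.testBit (lineMask 0) x ∧
        labOf sbPtLab x < 2 := fun x => by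
      have := allBelow_spec _ _ hp.1.2 x x.2
      simp only [Bool.and_eq_true, decide_eq_true_eq, Nat.blt_eq] at this
      exact this
    obtain ⟨k, hk, hSk⟩ := classes_set sbPt_ok hp.2 (fun x => (hl x).2) hS'
    have hc := allBelow_spec _ _ hp.1.1 k hk
    simp only [ptSum, Bool.or_eq_true, Bool.not_eq_true', Bool.eq_false_iff, ne_eq, Nat.beq_eq] at hc
    have hk1 : k = 1 := hc.resolve_left fun h => h (by rw [cnt_eq_ncard, ← hSk, hS])
    subst hk1
    ext x
    rw [hSk, Set.mem_ofPred_eq, Nat.testBit_one_eq_true_iff_self_eq_zero, ← Nat.beq_eq, (hl x).1]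
    rfl
  · -- five sets are permuted
    exfalso
    have hO5 : (fun a : Fin 1365 => lineSet a) '' O = fiveSet 0 := by
      ext T
      constructor
      · rintro ⟨a, ha, rfl⟩
        rw [hOeq, Set.mem_ofPred_eq, hm] at ha
        obtain ⟨t, ht, e⟩ := (hsf a).2.1 ha
        exact ⟨⟨t, ht⟩, congrArg lineSet e.symm⟩
      · rintro ⟨t, rfl⟩
        refine ⟨⟨_, (five_spec (show 0 < 1365 by norm_num)).1 t t.2⟩, ?_, rfl⟩
        rw [hOeq, Set.mem_ofPred_eq, hm]
        exact (hsf _).2.2 ⟨t, t.2, rfl⟩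
    have hAle : A ≤ M ⊓ MulAction.stabilizer (Equiv.Perm (Fin 416)) (fiveSet 0) := fun σ hσ => by
      refine ⟨hA hσ, ?_⟩
      show σ • fiveSet 0 = fiveSet 0
      rw [← hO5, ← hO]
      exact MulAction.smul_orbit (⟨σ, hσ⟩ : A) (lineSet 0)
    have heq := Subgroup.eq_of_le_of_card_ge hAle (hcard ▸ card_five_le)
    have hS' : ∀ e ∈ g5Gens, toPerm 9 416 e • S = S := fun e he => hinv _ (heq ▸ by
      refine ⟨hmem hg5 e he, ?_⟩
      show toPerm 9 416 e • fiveSet 0 = fiveSet 0
      obtain ⟨p, hp, hpj⟩ := (imgAll_spec g5Img_ok hv5).1 e he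
      refine Set.eq_of_subset_of_ncard_le ?_ (by rw [Set.ncard_smul_set])
      rintro _ ⟨_, ⟨s, rfl⟩, rfl⟩
      have h := allBelow_spec _ _ (hf5 p hp) s s.2
      simp only [List.any_eq_true, List.mem_range, Nat.beq_eq] at h
      obtain ⟨t, ht, e'⟩ := h
      refine ⟨⟨t, ht⟩, ?_⟩
      show lineSet (get 11 (fiveAt 0) t) = toPerm 9 416 e • lineSet (get 11 (fiveAt 0) s)
      rw [(hpj _ ((five_spec (show 0 < 1365 by norm_num)).1 s s.2)).2, e'])
    have hp := g5Pt_sums
    simp only [Bool.and_eq_true, Nat.beq_eq] at hp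
    obtain ⟨k, hk, hSk⟩ := classes_set g5Pt_ok hp.2
      (fun x => Nat.le_of_ble_eq_true (allBelow_spec _ _ hp.1.2 x x.2)) hS'
    have hc := allBelow_spec _ _ hp.1.1 k hk
    simp only [ptSum, Bool.not_eq_true', Bool.eq_false_iff, ne_eq, Nat.beq_eq] at hc
    exact hc (by rw [cnt_eq_ncard, ← hSk, hS])

/-- **The subgroups of order 184320 with an invariant 96-set.** -/
theorem exists_line {A : Subgroup (Equiv.Perm (Fin 416))} (hA : A ≤ M) (hcard : Nat.card A = 184320)
    {S : Set (Fin 416)} (hS : S.ncard = 96) (hinv : ∀ σ ∈ A, σ • S = S) :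
    ∃ j < 1365, S = lineSet j ∧ A = StL j := by
  have : Fact (Nat.Prime 2) := ⟨by norm_num⟩
  obtain ⟨Q, hQ⟩ := Sylow.exists_subgroup_card_pow_prime (G := A) 2 (n := 12) (by rw [hcard]; norm_num)
  have hsy : ∀ R : Subgroup M, Nat.card R = 4096 → ¬ 2 ∣ R.index := fun R hR => by
    have h := Subgroup.card_mul_index R
    rw [hR, card_M] at h
    omega
  have hQM : Nat.card ((Q.map A.subtype).subgroupOf M) = 4096 := by
    rw [Nat.card_congr (Subgroup.subgroupOfEquivOfLe ((Subgroup.map_subtype_le Q).trans hA)).toEquiv,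
      Nat.card_congr (Q.equivMapOfInjective A.subtype A.subtype_injective).symm.toEquiv, hQ]
    norm_num
  have hUle : genGroup 9 416 sylGens ≤ M := (Subgroup.closure_le _).2 fun σ hσ => by
    obtain ⟨e, he, rfl⟩ := List.mem_map.1 hσ
    have hg := gens_in
    simp only [Bool.and_eq_true] at hg
    exact (code_mem (List.all_eq_true.1 hg.1.1 e he)).2
  have hUM : Nat.card ((genGroup 9 416 sylGens).subgroupOf M) = 4096 :=
    (Nat.card_congr (Subgroup.subgroupOfEquivOfLe hUle).toEquiv).trans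
      ((cert_card syl_cert).trans syl_order)
  let S1 : Sylow 2 M := (IsPGroup.of_card (n := 12) (hQM.trans (by norm_num))).toSylow (hsy _ hQM)
  let S2 : Sylow 2 M := (IsPGroup.of_card (n := 12) (hUM.trans (by norm_num))).toSylow (hsy _ hUM)
  obtain ⟨g, hg⟩ := MulAction.exists_smul_eq M S1 S2
  let g' : Equiv.Perm (Fin 416) := g
  let c : Equiv.Perm (Fin 416) →* Equiv.Perm (Fin 416) := (MulAut.conj g').toMonoidHom
  have hA' : A.map c ≤ M := by
    rintro _ ⟨a, ha, rfl⟩
    exact mul_mem (mul_mem g.2 (hA ha)) (inv_mem g.2)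
  have hc' : Nat.card (A.map c) = 184320 :=
    (Nat.card_congr (A.equivMapOfInjective c (MulAut.conj g').injective).symm.toEquiv).trans hcard
  have hU' : genGroup 9 416 sylGens ≤ A.map c := fun x hx => by
    have h2 : (⟨x, hUle hx⟩ : M) ∈ ((S2 : Sylow 2 M) : Subgroup M) := Subgroup.mem_subgroupOf.2 hx
    rw [← hg] at h2
    obtain ⟨y, hy, hyx⟩ := h2
    obtain ⟨z, hz, e⟩ := Subgroup.mem_subgroupOf.1 hy
    exact ⟨y, e ▸ z.2, congrArg Subtype.val hyx⟩
  obtain ⟨hS0, hA0⟩ := case_syl hA' hc' hU' (S := g' • S) (by rw [Set.ncard_smul_set, hS])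
    (by
      rintro _ ⟨a, ha, rfl⟩
      show (g' * a * g'⁻¹) • g' • S = g' • S
      rw [smul_smul, inv_mul_cancel_right, mul_smul, hinv a ha])
  obtain ⟨j, hj, e⟩ := M_lines_closed (inv_mem g.2) (show 0 < 1365 by norm_num)
  rw [← hS0, ← Subgroup.coe_inv, show ((g⁻¹ : M) : Equiv.Perm (Fin 416)) = g'⁻¹ from rfl,
    inv_smul_smul] at e
  refine ⟨j, hj, e, Subgroup.eq_of_le_of_card_ge (fun a ha => ⟨hA ha, ?_⟩)
    (by rw [card_StL hj, hcard])⟩
  show a • lineSet j = lineSet j
  rw [← e, hinv a ha]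

end Cfsg.Agent.SuzRec
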