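import Cfsg.Agent.Lib.SuzRec.FiveNorm
import Cfsg.Agent.Lib.SuzRec.FiveCheckC1
import Cfsg.Agent.Lib.SuzRec.FiveCheckC2
import Cfsg.Agent.Lib.SuzRec.FiveCheckC3
import Cfsg.Agent.Lib.SuzRec.FiveCheckC4
import Cfsg.Agent.Lib.SuzRec.FiveCheckC5
import Mathlib.GroupTheory.Sylow
import Mathlib.GroupTheory.SpecificGroups.Cyclic
import Mathlib.GroupTheory.GroupAction.SubMulAction

/-! The subgroups of order 604800 of the coded group are the point stabilisers. -/

set_option autoImplicit false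
set_option maxRecDepth 20000

namespace Cfsg.Agent.SuzRec

open Cfsg.Agent.PermCert Cfsg.Agent.G24J2

attribute [local irreducible] u0E u3E qE lineExp twelveExp pKeys okKeys g24Gens g24Levels labs pairs
  pairTrees j3Gens j3Derived j3Levels

theorem cent_all {i : ℕ} (hi : i < 6) : centTest i = true := by
  interval_cases i
  · exact (Bool.and_eq_true _ _ ▸ first_ok).1
  · exact cent1_ok
  · exact cent2_ok
  · exact cent3_ok
  · exact cent4_ok
  · exact cent5_ok

/-- One of the six elements. -/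
noncomputable def uE (i : ℕ) : Equiv.Perm (Fin 416) := toW 9 416 (uW i)

/-- Its partner outside P. -/
noncomputable def qP (i : ℕ) : Equiv.Perm (Fin 416) := toPerm 9 416 (qE.getD i (0, 0))

/-- The conjugates of the partner. -/
noncomputable def cP (i k : ℕ) : Equiv.Perm (Fin 416) :=
  toPerm 9 416 (shW i) ^ k * qP i * (toPerm 9 416 (shW i) ^ k)⁻¹

theorem sh_spec (i : ℕ) : allIn [shW i] = true ∧ toPerm 9 416 (shW i) ∈ P5 := by
  unfold shW
  cases Nat.beq (lineExp.getD i (0, 0)).2 0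
  · exact ⟨gen_facts.1, Subgroup.subset_closure (Set.mem_insert _ _)⟩
  · exact ⟨gen_facts.2.1, Subgroup.subset_closure (Set.mem_insert_of_mem u0 (Set.mem_singleton u3))⟩

theorem q_spec {i : ℕ} (hi : i < 6) : allIn (qW i) = true ∧ qP i ^ 5 = 1 ∧
    Commute (uE i) (qP i) ∧ qP i ∉ P5 ∧ okKeys.getD i [] = okList i := by
  have h := allBelow_spec _ _ q_ok i hi
  simp only [qTest, Bool.and_eq_true, Bool.not_eq_true', Bool.eq_false_iff, ne_eq, beq_iff_eq] at h
  obtain ⟨⟨⟨h5, hc⟩, hP⟩, hk⟩ := h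
  have hq : allIn (qW i) = true := by
    have hg := gen_ok
    simp only [genTest, Bool.and_eq_true, Nat.beq_eq] at hg
    obtain ⟨⟨⟨⟨⟨⟨⟨⟨-, hq⟩, hl⟩, -⟩, -⟩, -⟩, -⟩, -⟩, -⟩ := hg
    have : qE.getD i (0, 0) ∈ qE := by
      rw [List.getD_eq_getElem _ _ (by omega)]; exact List.getElem_mem _
    simp only [allIn, List.all_eq_true] at hq ⊢
    exact fun e he => by rw [List.mem_singleton.1 he]; exact hq _ this
  have ht : toW 9 416 (qW i) = qP i := by simp [qW, qP]
  refine ⟨hq, ?_, ?_, fun hc' => hP ?_, hk⟩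
  · have := same_spec (word_mem (allIn_powW hq 5)).1 (by simp) h5
    rw [toW_powW, ht] at this; simpa using this
  · have := same_spec (word_mem (allIn_append (uW_spec i).1 hq)).1
      (word_mem (allIn_append hq (uW_spec i).1)).1 hc
    simpa [Commute, SemiconjBy, toW_append, uE, ht] using this
  · exact (key_mem_P5 (word_mem hq).1 (word_mem hq).2).2 (ht ▸ hc')

theorem cP_spec {i : ℕ} (hi : i < 6) (k : ℕ) : cP i k ∈ M ∧ cP i k ^ 5 = 1 ∧ cP i k ∉ P5 := by
  obtain ⟨hq, h5, -, hP, -⟩ := q_spec hi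
  obtain ⟨hs, hsP⟩ := sh_spec i
  have hp := pow_mem hsP k
  refine ⟨?_, ?_, fun h => hP ?_⟩
  · have := (word_mem hq).2
    rw [show toW 9 416 (qW i) = qP i by simp [qW, qP]] at this
    exact mul_mem (mul_mem (P5_le hp) this) (inv_mem (P5_le hp))
  · rw [cP, conj_pow, h5, mul_one, mul_inv_cancel]
  · have := mul_mem (mul_mem (inv_mem hp) h) hp
    rwa [cP, show ∀ p q : Equiv.Perm (Fin 416), p⁻¹ * (p * q * p⁻¹) * p = q from
      fun p q => by group] at this

/-- Elements of order five commuting with one of the six. -/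
theorem cent_leaf {i : ℕ} (hi : i < 6) {y : Equiv.Perm (Fin 416)} (hy : y ∈ M)
    (hc : Commute y (uE i)) (h5 : y ^ 5 = 1) (hP : y ∉ P5) :
    ∃ k < 5, ∃ a, ∃ b < 5, y = uE i ^ a * cP i k ^ b := by
  obtain ⟨hu, huP⟩ := uW_spec i
  obtain ⟨es, h1, h2, e⟩ := search_M (cs := [(uW i, uW i)]) (pts := [])
    (fun uv huv => by
      rw [List.mem_singleton] at huv; subst huv
      exact ⟨(word_mem hu).1, (word_mem hu).1⟩) (by simp) hy
    (fun uv huv => by
      rw [List.mem_singleton] at huv; subst huv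
      exact hc.eq) (by simp)
  have ht := List.all_eq_true.1 (cent_all hi) es h1
  obtain ⟨hq, -, hcomm, -, hk⟩ := q_spec hi
  simp only [Bool.or_eq_true, Bool.not_eq_true', Bool.eq_false_iff, ne_eq, Nat.beq_eq] at ht
  rcases ht with (h' | h') | h'
  · refine absurd (key_congr (fun x hx => ?_) (by simp) ?_) h'
    · obtain ⟨l, hl, hx⟩ := List.mem_flatten.1 hx
      rw [(List.mem_replicate.1 hl).2] at hx
      exact h2 x hx
    · rw [toW_powW, e, h5]; rfl
  · exact absurd (e ▸ (key_mem_P5 h2 (e ▸ hy)).1 h') hP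
  · simp only [keyIn, List.any_eq_true, Nat.beq_eq] at h'
    obtain ⟨x, hx, rfl⟩ := h'
    rw [hk, okList, List.mem_map] at hx
    obtain ⟨⟨k, a, b⟩, ht, he⟩ := hx
    simp only [trips, List.mem_flatMap, List.mem_map, List.mem_range, Prod.mk.injEq] at ht
    obtain ⟨k', hk', a', -, b', hb', rfl, rfl, rfl⟩ := ht
    obtain ⟨hs, hsP⟩ := sh_spec i
    have hr := allIn_replicate hs k'
    have hi3 := invW_mem hr
    have hall : (∀ e ∈ okW i k' a' b', validElt 9 416 e = true) ∧
        toW 9 416 (okW i k' a' b') = uE i ^ a' * cP i k' ^ b' := by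
      refine ⟨fun z hz => ?_, ?_⟩
      · simp only [okW, List.mem_append] at hz
        rcases hz with ((hz | hz) | hz) | hz
        · exact (word_mem hr).1 z hz
        · exact (word_mem (allIn_powW hu a')).1 z hz
        · exact (word_mem (allIn_powW hq b')).1 z hz
        · exact hi3.1 z hz
      · rw [okW, toW_append, toW_append, toW_append, hi3.2.2, toW_powW, toW_powW, toW_replicate, cP,
          conj_pow, show toW 9 416 (qW i) = qP i by simp [qW, qP], ← uE]
        have hc' : Commute (toPerm 9 416 (shW i) ^ k') (uE i ^ a') :=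
          P5_comm (pow_mem hsP k') (pow_mem huP a')
        rw [hc'.eq]; simp only [mul_assoc]
    refine ⟨k', hk', a', b', hb', ?_⟩
    rw [← hall.2, ← e]
    refine eq_of_key h2 hall.1 (e ▸ hy) ?_ he.symm
    rw [hall.2]
    exact mul_mem (pow_mem (P5_le huP) _) (pow_mem (cP_spec hi k').1 _)

theorem slope {x : Equiv.Perm (Fin 416)} (hx : x ∈ P5) (h1 : x ≠ 1) :
    ∃ i < 6, ∃ k : ℕ, uE i = x ^ k := by
  obtain ⟨a, ha, b, hb, rfl⟩ := mem_P5.1 hx
  have h := allBelow_spec _ _ (allBelow_spec _ _ slope_ok a ha) b hb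
  simp only [Bool.or_eq_true, Bool.and_eq_true, Nat.beq_eq, List.any_eq_true, List.mem_range] at h
  rcases h with ⟨rfl, rfl⟩ | ⟨i, hi, k, -, e1, e2⟩
  · exact absurd (by simp) h1
  · refine ⟨i, hi, k, ?_⟩
    obtain ⟨-, -, -, -, hc, -⟩ := gen_facts
    rw [uE, uW, (pW_spec _ _).2, e1, e2, (hc.pow_pow a b).mul_pow, ← pow_mul, ← pow_mul, mul_comm a,
      mul_comm b, ← pow_reduce]

theorem uE_ne_one {i : ℕ} (hi : i < 6) : uE i ≠ 1 := by
  have hne : allBelow (fun i => (Nat.blt (lineExp.getD i (0, 0)).1 5 &&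
      Nat.blt (lineExp.getD i (0, 0)).2 5) && !((lineExp.getD i (0, 0)) == (0, 0))) 6 = true := by
    decide +kernel
  have h := allBelow_spec _ _ hne i hi
  simp only [Bool.and_eq_true, Nat.blt_eq, Bool.not_eq_true', beq_eq_false_iff_ne, ne_eq] at h
  intro e
  rw [uE, uW, (pW_spec _ _).2] at e
  obtain ⟨e1, e2⟩ := exp_inj h.1.1 h.1.2 (by norm_num : 0 < 5) (by norm_num : 0 < 5)
    (by rw [e, pow_zero, pow_zero, mul_one])
  exact h.2 (Prod.ext e1 e2)

theorem mem_of_mask {l : List ℕ} {n x : ℕ}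
    (h : Nat.beq (l.foldr (fun y m => Nat.lor (Nat.shiftLeft 1 y) m) 0) (2 ^ n - 1) = true) (hx : x < n) :
    ∃ y ∈ l, x = y := by
  have key : ∀ l : List ℕ, (l.foldr (fun y m => Nat.lor (Nat.shiftLeft 1 y) m) 0).testBit x = true →
      ∃ y ∈ l, x = y := by
    intro l
    induction l with
    | nil => simp
    | cons a l ih =>
      intro h
      rw [List.foldr_cons, show ∀ u v : ℕ, Nat.lor u v = u ||| v from fun _ _ => rfl, Nat.testBit_or,
        Nat.shiftLeft_eq', Nat.one_shiftLeft, Nat.testBit_two_pow, Bool.or_eq_true,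
        decide_eq_true_eq] at h
      rcases h with h | h
      · exact ⟨a, List.mem_cons_self, h.symm⟩
      · obtain ⟨y, hy, e⟩ := ih h
        exact ⟨y, List.mem_cons_of_mem _ hy, e⟩
  refine key l ?_
  rw [Nat.eq_of_beq_eq_true h, Nat.testBit_two_pow_sub_one]
  exact decide_eq_true hx

/-- No subgroup with the two generators and a transitive pair. -/
theorem no_pair {A : Subgroup (Equiv.Perm (Fin 416))} (hcard : Nat.card A = 604800)
    (hP : P5 ≤ A) {p : ℕ × ℕ} (hp : p ∈ pairs) (h1 : qP p.1 ∈ A) (h2 : qP p.2 ∈ A) : False := by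
  obtain ⟨k, hk, rfl⟩ := List.getElem_of_mem hp
  have h := pair_ok
  simp only [Bool.and_eq_true, Nat.beq_eq] at h
  have ht := allBelow_spec _ _ h.1 k (h.2 ▸ hk)
  simp only [pairTest, Bool.and_eq_true, Nat.blt_eq] at ht
  rw [List.getD_eq_getElem _ _ hk] at ht
  obtain ⟨⟨⟨htree, hall⟩, hi⟩, hj⟩ := ht
  have hu0 : u0 ∈ A := hP (Subgroup.subset_closure (Set.mem_insert _ _))
  have hu3 : u3 ∈ A := hP (Subgroup.subset_closure (Set.mem_insert_of_mem u0 (Set.mem_singleton u3)))
  have horb : {x | ∃ g : A, A.subtype g 0 = x} = Set.univ := Set.eq_univ_of_forall fun x => by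
    obtain ⟨y, hy, hxy⟩ := mem_of_mask (x := (x : ℕ)) hall x.2
    have key := J2.tree_induction htree (P := fun z => ∃ σ ∈ A, (σ (0 : Fin 416) : ℕ) = z)
      (fun r hr => by rw [List.mem_singleton.1 hr]; exact ⟨1, A.one_mem, rfl⟩)
      (fun g hg z ⟨σ, hσ, e⟩ => by
        have hgA : validElt 9 416 g = true ∧ toPerm 9 416 g ∈ A := by
          simp only [List.mem_cons, List.not_mem_nil, or_false] at hg
          rcases hg with rfl | rfl | rfl | rfl
          · exact ⟨(word_mem gen_facts.1).1 _ List.mem_cons_self, hu0⟩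
          · exact ⟨(word_mem gen_facts.2.1).1 _ List.mem_cons_self, hu3⟩
          · exact ⟨(word_mem (q_spec hi).1).1 _ List.mem_cons_self, h1⟩
          · exact ⟨(word_mem (q_spec hj).1).1 _ List.mem_cons_self, h2⟩
        refine ⟨toPerm 9 416 g * σ, A.mul_mem hgA.2 hσ, ?_⟩
        rw [← e]; exact ((rep_toPerm hgA.1) (σ 0)).1.symm) y hy
    obtain ⟨σ, hσ, e⟩ := key
    exact ⟨⟨σ, hσ⟩, Fin.ext (e.trans hxy.symm)⟩
  have hidx := index_stab A.subtype (0 : Fin 416)
  rw [horb, Set.ncard_univ, Nat.card_fin] at hidx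
  have := Subgroup.index_dvd_card
    ((MulAction.stabilizer (Equiv.Perm (Fin 416)) (0 : Fin 416)).comap A.subtype)
  rw [hidx, hcard] at this
  norm_num at this

/-- Sylow counting: at least three of the six partners lie in a subgroup of order 604800. -/
theorem three_partners {A : Subgroup (Equiv.Perm (Fin 416))} (hA : A ≤ M)
    (hcard : Nat.card A = 604800) (hP : P5 ≤ A) :
    ∃ s : Finset (Fin 6), 3 ≤ s.card ∧ ∀ i ∈ s, qP i ∈ A := by
  classical
  have : Fact (Nat.Prime 5) := ⟨by norm_num⟩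
  have hP' : Nat.card (P5.subgroupOf A) = 25 :=
    (Nat.card_congr (Subgroup.subgroupOfEquivOfLe hP).toEquiv).trans card_P5
  have hidx : ¬ 5 ∣ (P5.subgroupOf A).index := by
    have h := Subgroup.card_mul_index (P5.subgroupOf A)
    rw [hP', hcard] at h
    omega
  let S : Sylow 5 A := (IsPGroup.of_card (n := 2) (hP'.trans (by norm_num))).toSylow hidx
  have hS : (S : Subgroup A) = P5.subgroupOf A := rfl
  have hmemS : ∀ x : A, x ∈ (S : Subgroup A) ↔ (x : Equiv.Perm (Fin 416)) ∈ P5 := fun x => by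
    rw [hS]; exact Subgroup.mem_subgroupOf
  -- the normaliser
  set N := Subgroup.normalizer ((S : Subgroup A) : Set A) with hN
  let e := Nat.card (N.map A.subtype)
  have hNn : ∀ g ∈ N.map A.subtype, ∀ x ∈ P5, g * x * g⁻¹ ∈ P5 := by
    rintro _ ⟨g, hg, rfl⟩ x hx
    exact (hmemS (g * ⟨x, hP hx⟩ * g⁻¹)).1
      ((Subgroup.mem_normalizer_iff.1 hg ⟨x, hP hx⟩).1 ((hmemS _).2 hx))
  have hNle : N.map A.subtype ≤ M := (Subgroup.map_subtype_le N).trans hA
  have hNb := norm_bound hNle hNn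
  have hcN : Nat.card (N.map A.subtype) = Nat.card N :=
    Nat.card_congr (N.equivMapOfInjective A.subtype A.subtype_injective).symm.toEquiv
  have h25 : 25 ∣ Nat.card N := hP' ▸ hS ▸ Subgroup.card_dvd_of_le Subgroup.le_normalizer
  have h7 : ¬ 7 ∣ Nat.card N := fun hd => by
    have : Fact (Nat.Prime 7) := ⟨by norm_num⟩
    rw [← hcN] at hd
    obtain ⟨x, hx⟩ := exists_prime_orderOf_dvd_card' 7 hd
    have hx7 : (x : Equiv.Perm (Fin 416)) ^ 7 = 1 := by
      rw [← SubmonoidClass.coe_pow, ← hx, pow_orderOf_eq_one]; rfl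
    have := norm_seven (hNle x.2) hx7 (hNn x x.2)
    rw [show x = 1 from Subtype.ext this, orderOf_one] at hx
    norm_num at hx
  have hn := S.card_eq_index_normalizer
  have hmod : Nat.card (Sylow 5 A) ≡ 1 [MOD 5] := card_sylow_modEq_one 5 A
  have hNA := Subgroup.card_mul_index N
  rw [hcard, show N.index = Nat.card (Sylow 5 A) from hn.symm] at hNA
  have hn' : Nat.card (Sylow 5 A) = 12096 ∨ Nat.card (Sylow 5 A) = 2016 := by
    obtain ⟨c, hc⟩ := h25
    rw [hc, mul_assoc] at hNA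
    rw [hcN, hc] at hNb
    have hc24 : c ≤ 24 := by omega
    rw [hc] at h7
    rw [Nat.ModEq] at hmod
    interval_cases c <;> omega
  -- free orbits
  let X : SubMulAction (S : Subgroup A) (Sylow 5 A) :=
    { carrier := {Q | ∀ x : (S : Subgroup A), x • Q = Q → x = 1}
      smul_mem' := fun y Q hQ x hx => by
        have := hQ (y⁻¹ * x * y) (by rw [mul_smul, mul_smul, hx, inv_smul_smul])
        rwa [mul_assoc, inv_mul_eq_one, eq_comm, ← eq_mul_inv_iff_mul_eq, mul_inv_cancel] at this }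
  have hXfree : ∀ Q : X, MulAction.stabilizer (S : Subgroup A) Q = ⊥ := fun Q => by
    refine (Subgroup.eq_bot_iff_forall _).2 fun x hx => Q.2 x ?_
    exact congrArg Subtype.val hx
  have hX25 : 25 ∣ Nat.card X := by
    rw [Nat.card_congr (MulAction.selfEquivOrbitsQuotientProd hXfree), Nat.card_prod,
      show Nat.card (S : Subgroup A) = 25 from hP']
    exact dvd_mul_left _ _
  -- the others
  let T : Set (Sylow 5 A) := {Q | Q ≠ S ∧ Q ∉ X}
  let I : Finset (Fin 6) := Finset.univ.filter fun i => qP i ∈ A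
  let img : Sylow 5 A → Subgroup (Equiv.Perm (Fin 416)) := fun Q => (Q : Subgroup A).map A.subtype
  have himgA : ∀ Q, img Q ≤ A := fun Q => Subgroup.map_subtype_le _
  have himgc : ∀ Q, Nat.card (img Q) = 25 := fun Q => by
    rw [Nat.card_congr ((Q : Subgroup A).equivMapOfInjective A.subtype A.subtype_injective).symm.toEquiv,
      Q.card_eq_multiplicity, ← S.card_eq_multiplicity, hS, hP']
  have himgp : ∀ Q, ∀ y ∈ img Q, y ^ 5 = 1 := by
    rintro Q _ ⟨z, hz, rfl⟩
    obtain ⟨g, rfl⟩ := MulAction.exists_smul_eq A S Q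
    obtain ⟨w, hw, rfl⟩ := hz
    have := P5_pow ((hmemS w).1 hw)
    simp only [MulDistribMulAction.toMonoidEnd_apply, MulDistribMulAction.toMonoidHom_apply,
      MulAut.smul_def, MulAut.conj_apply, Subgroup.coe_subtype, Subgroup.coe_mul,
      InvMemClass.coe_inv, conj_pow, this, mul_one, mul_inv_cancel]
  have hT : ∀ Q ∈ T, ∃ i ∈ I, ∃ k : Fin 5, uE i ∈ img Q ∧ cP i k ∈ img Q := by
    rintro Q ⟨hQS, hQX⟩
    obtain ⟨x, hx, hx1⟩ : ∃ x : (S : Subgroup A), x • Q = Q ∧ x ≠ 1 := by
      by_contra hne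
      push Not at hne
      exact hQX hne
    have hxN : (x : A) ∈ (S : Subgroup A) ⊓ Subgroup.normalizer ((Q : Subgroup A) : Set A) :=
      ⟨x.2, Sylow.smul_eq_iff_mem_normalizer.1 hx⟩
    replace hxN : (x : A) ∈ (S : Subgroup A) ⊓ (Q : Subgroup A) :=
      (S.isPGroup'.inf_normalizer_sylow Q) ▸ hxN
    obtain ⟨i, hi, k, hk⟩ := slope ((hmemS x).1 x.2)
      (fun h => hx1 (Subtype.ext (Subtype.ext h)))
    have hxI : ((x : A) : Equiv.Perm (Fin 416)) ∈ img Q := ⟨(x : A), hxN.2, rfl⟩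
    have hu : uE i ∈ img Q := hk ▸ pow_mem hxI k
    have hcomm : ∀ y ∈ img Q, Commute y (uE i) := fun y hy => by
      have hc : ∀ a b : img Q, Commute a b :=
        IsPGroup.commutative_of_card_eq_prime_sq (p := 5) ((himgc Q).trans (by norm_num))
      exact congrArg Subtype.val (hc ⟨y, hy⟩ ⟨_, hu⟩).eq
    obtain ⟨y, hy, hyP⟩ : ∃ y ∈ img Q, y ∉ P5 := by
      by_contra hne
      push Not at hne
      refine hQS (Sylow.ext ?_)
      rw [hS]
      refine Subgroup.eq_of_le_of_card_ge (fun a ha => Subgroup.mem_subgroupOf.2 (hne _ ⟨a, ha, rfl⟩))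
        (le_of_eq ?_)
      rw [hP', Q.card_eq_multiplicity, ← S.card_eq_multiplicity, hS, hP']
    obtain ⟨j, hj, a, b, hb, hy'⟩ := cent_leaf hi (hA (himgA Q hy)) (hcomm y hy) (himgp Q y hy) hyP
    have hcb : cP i j ^ b ∈ img Q := by
      have := mul_mem (inv_mem (pow_mem hu a)) hy
      rwa [hy', inv_mul_cancel_left] at this
    have hb0 : b ≠ 0 := by
      rintro rfl
      rw [pow_zero, mul_one] at hy'
      exact hyP (hy' ▸ pow_mem (uW_spec i).2 a)
    have hc : cP i j ∈ img Q := by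
      have := pow_mem hcb (b ^ 3)
      rwa [← pow_mul, pow_eq_pow_mod _ (cP_spec hi j).2.1,
        show b * b ^ 3 % 5 = 1 by interval_cases b <;> first | omega | norm_num, pow_one] at this
    refine ⟨⟨i, hi⟩, Finset.mem_filter.2 ⟨Finset.mem_univ _, ?_⟩, ⟨j, hj⟩, hu, hc⟩
    have hp := hP (pow_mem (sh_spec i).2 j)
    have := mul_mem (mul_mem (inv_mem hp) (himgA Q hc)) hp
    rwa [cP, show ∀ p q : Equiv.Perm (Fin 416), p⁻¹ * (p * q * p⁻¹) * p = q from
      fun p q => by group] at this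
  choose fi hfi fk hfu hfc using hT
  have hinj : Function.Injective fun Q : T => ((⟨fi Q.1 Q.2, hfi Q.1 Q.2⟩ : I), fk Q.1 Q.2) := by
    rintro ⟨Q, hQ⟩ ⟨R, hR⟩ h
    simp only [Prod.mk.injEq, Subtype.mk.injEq] at h
    have h1 := hfu Q hQ
    have h2 := hfc Q hQ
    rw [h.1] at h1
    rw [h.1, h.2] at h2
    refine Subtype.ext (Sylow.ext (Subgroup.map_injective A.subtype_injective ?_))
    show img Q = img R
    set W := img Q ⊓ img R with hW
    have hu : uE (fi R hR) ∈ W := ⟨h1, hfu R hR⟩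
    have hc : cP (fi R hR) (fk R hR) ∈ W := ⟨h2, hfc R hR⟩
    have hd : Nat.card W ∣ 5 ^ 2 := by
      have := Subgroup.card_dvd_of_le (inf_le_left : W ≤ img Q)
      rwa [himgc] at this
    obtain ⟨m, hm, hWc⟩ := (Nat.dvd_prime_pow (by norm_num)).1 hd
    have hW25 : Nat.card W = 25 := by
      interval_cases m
      · have := (Subgroup.eq_bot_iff_forall _).1 (Subgroup.card_eq_one.1 hWc) _ hu
        exact absurd this (uE_ne_one (fi R hR).2)
      · exfalso
        rw [pow_one] at hWc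
        have hg := Subgroup.eq_top_of_card_eq (Subgroup.zpowers (⟨_, hu⟩ : W)) (by
          rw [Nat.card_zpowers, orderOf_eq_prime (p := 5) (Subtype.ext (himgp Q _ h1))
            (fun e => uE_ne_one (fi R hR).2 (congrArg Subtype.val e)), hWc])
        obtain ⟨z, hz⟩ := Subgroup.mem_zpowers_iff.1 (hg ▸ Subgroup.mem_top (⟨_, hc⟩ : W))
        refine (cP_spec (fi R hR).2 (fk R hR)).2.2 ?_
        have := congrArg Subtype.val hz
        rw [SubgroupClass.coe_zpow] at this
        have h9 : uE (fi R hR) ^ z = cP (fi R hR) (fk R hR) := this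
        rw [← h9]
        exact zpow_mem (uW_spec _).2 z
      · exact hWc
    exact (Subgroup.eq_of_le_of_card_ge (inf_le_left : W ≤ img Q) (by rw [hW25, himgc])).symm.trans
      (Subgroup.eq_of_le_of_card_ge (inf_le_right : W ≤ img R) (by rw [hW25, himgc]))
  have hTle : Nat.card T ≤ I.card * 5 := by
    have := Nat.card_le_card_of_injective _ hinj
    rwa [Nat.card_prod, Nat.card_eq_fintype_card (α := I), Fintype.card_coe, Nat.card_fin] at this
  have hsplit : Nat.card (Sylow 5 A) = 1 + Nat.card T + Nat.card X := by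
    have hSX : S ∉ X := fun h => by
      obtain ⟨x, hx, hx1⟩ : ∃ x ∈ (S : Subgroup A), x ≠ 1 := by
        by_contra hne
        push Not at hne
        rw [← Subgroup.eq_bot_iff_forall, ← Subgroup.card_eq_one, hS, hP'] at hne
        norm_num at hne
      exact hx1 (congrArg Subtype.val (h ⟨x, hx⟩
        (Sylow.smul_eq_iff_mem_normalizer.2 (Subgroup.le_normalizer hx))))
    have hu : (Set.univ : Set (Sylow 5 A)) = insert S (T ∪ (X : Set (Sylow 5 A))) :=
      (Set.eq_univ_of_forall fun Q => by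
        by_cases h1 : Q = S
        · exact Or.inl h1
        · by_cases h2 : Q ∈ X
          · exact Or.inr (Or.inr h2)
          · exact Or.inr (Or.inl ⟨h1, h2⟩)).symm
    rw [← Set.ncard_univ, hu, Set.ncard_insert_of_notMem (fun h => h.elim (fun h => h.1 rfl) hSX),
      Set.ncard_union_eq (Set.disjoint_left.2 fun Q hQ hQX => hQ.2 hQX), ← Nat.card_coe_set_eq,
      ← Nat.card_coe_set_eq]
    simp only [SetLike.coe_sort_coe]
    omega
  refine ⟨I, ?_, fun i hi => (Finset.mem_filter.1 hi).2⟩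
  rcases hn' with h | h <;> omega

/-- A subgroup of order 604800 containing P is the stabiliser of the first point. -/
theorem eq_Jp_zero {A : Subgroup (Equiv.Perm (Fin 416))} (hA : A ≤ M)
    (hcard : Nat.card A = 604800) (hP : P5 ≤ A) : A = Jp 0 := by
  obtain ⟨s, hs, hmem⟩ := three_partners hA hcard hP
  rcases pairs_cover s hs with ⟨h0, h1, h2⟩ | ⟨p, hp, ⟨i, hi, ei⟩, j, hj, ej⟩
  · have hfix0 : (j3Gens.all fun e => validElt 9 416 e && Nat.beq (get 9 e.1 0) 0) = true := by
      decide +kernel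
    have hgen : ∀ e ∈ j3Gens, toPerm 9 416 e ∈ A := by
      intro e he
      rw [j3_gens] at he
      simp only [List.mem_cons, List.not_mem_nil, or_false] at he
      rcases he with rfl | rfl | rfl | rfl | rfl
      · show u0 ∈ A
        exact hP (Subgroup.subset_closure (Set.mem_insert u0 _))
      · show u3 ∈ A
        exact hP (Subgroup.subset_closure (Set.mem_insert_of_mem u0 (Set.mem_singleton u3)))
      · simpa [qP] using hmem _ h0
      · simpa [qP] using hmem _ h1
      · simpa [qP] using hmem _ h2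
    have hle : genGroup 9 416 j3Gens ≤ A := (Subgroup.closure_le _).2 fun σ hσ => by
      obtain ⟨e, he, rfl⟩ := List.mem_map.1 hσ
      exact hgen e he
    have hle0 : genGroup 9 416 j3Gens ≤ Jp 0 := (Subgroup.closure_le _).2 fun σ hσ => by
      obtain ⟨e, he, rfl⟩ := List.mem_map.1 hσ
      have h := List.all_eq_true.1 hfix0 e he
      rw [Bool.and_eq_true, Nat.beq_eq] at h
      exact ⟨hA (hgen e he), toPerm_apply h.1 h.2⟩
    have hc := light_card_le j3_light
    rw [j3_order] at hc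
    rw [← Subgroup.eq_of_le_of_card_ge hle (hcard ▸ hc),
      Subgroup.eq_of_le_of_card_ge hle0 (card_Jp 0 ▸ hc)]
  · exact (no_pair hcard hP hp (ei ▸ hmem i hi) (ej ▸ hmem j hj)).elim

/-- **The subgroups of order 604800.** -/
theorem exists_Jp {A : Subgroup (Equiv.Perm (Fin 416))} (hA : A ≤ M)
    (hcard : Nat.card A = 604800) : ∃ p, A = Jp p := by
  have : Fact (Nat.Prime 5) := ⟨by norm_num⟩
  obtain ⟨Q, hQ⟩ := Sylow.exists_subgroup_card_pow_prime (G := A) 5 (n := 2) (by rw [hcard]; norm_num)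
  have hsy : ∀ R : Subgroup M, Nat.card R = 25 → ¬ 5 ∣ R.index := fun R hR => by
    have h := Subgroup.card_mul_index R
    rw [hR, card_M] at h
    omega
  have hQM : Nat.card ((Q.map A.subtype).subgroupOf M) = 25 := by
    rw [Nat.card_congr (Subgroup.subgroupOfEquivOfLe ((Subgroup.map_subtype_le Q).trans hA)).toEquiv,
      Nat.card_congr (Q.equivMapOfInjective A.subtype A.subtype_injective).symm.toEquiv, hQ]
    norm_num
  have hPM : Nat.card (P5.subgroupOf M) = 25 :=
    (Nat.card_congr (Subgroup.subgroupOfEquivOfLe P5_le).toEquiv).trans card_P5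
  let S1 : Sylow 5 M := (IsPGroup.of_card (n := 2) (hQM.trans (by norm_num))).toSylow (hsy _ hQM)
  let S2 : Sylow 5 M := (IsPGroup.of_card (n := 2) (hPM.trans (by norm_num))).toSylow (hsy _ hPM)
  obtain ⟨g, hg⟩ := MulAction.exists_smul_eq M S1 S2
  let c : Equiv.Perm (Fin 416) →* Equiv.Perm (Fin 416) := (MulAut.conj (g : Equiv.Perm (Fin 416))).toMonoidHom
  have hA' : A.map c ≤ M := by
    rintro _ ⟨a, ha, rfl⟩
    exact mul_mem (mul_mem g.2 (hA ha)) (inv_mem g.2)
  have hc' : Nat.card (A.map c) = 604800 :=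
    (Nat.card_congr (A.equivMapOfInjective c (MulAut.conj (g : Equiv.Perm (Fin 416))).injective).symm.toEquiv).trans
      hcard
  have hP' : P5 ≤ A.map c := fun x hx => by
    have h2 : (⟨x, P5_le hx⟩ : M) ∈ ((S2 : Sylow 5 M) : Subgroup M) := Subgroup.mem_subgroupOf.2 hx
    rw [← hg] at h2
    obtain ⟨y, hy, hyx⟩ := h2
    obtain ⟨z, hz, e⟩ := Subgroup.mem_subgroupOf.1 hy
    exact ⟨y, e ▸ z.2, congrArg Subtype.val hyx⟩
  refine ⟨(g : Equiv.Perm (Fin 416))⁻¹ 0, ?_⟩
  have h := eq_Jp_zero hA' hc' hP'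
  ext x
  constructor
  · intro hx
    have := h ▸ Subgroup.mem_map_of_mem c hx
    refine ⟨hA hx, ?_⟩
    have e : ((g : Equiv.Perm (Fin 416)) * x * (g : Equiv.Perm (Fin 416))⁻¹) 0 = 0 := this.2
    rw [Equiv.Perm.mul_apply, Equiv.Perm.mul_apply] at e
    exact (g : Equiv.Perm (Fin 416)).injective (e.trans ((g : Equiv.Perm (Fin 416)).apply_symm_apply 0).symm)
  · rintro ⟨hxM, hx⟩
    have : c x ∈ A.map c := by
      rw [h]
      refine ⟨show (g : Equiv.Perm (Fin 416)) * x * (g : Equiv.Perm (Fin 416))⁻¹ ∈ M from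
        mul_mem (mul_mem g.2 (show x ∈ M from hxM)) (inv_mem g.2), ?_⟩
      show ((g : Equiv.Perm (Fin 416)) * x * (g : Equiv.Perm (Fin 416))⁻¹) 0 = 0
      rw [Equiv.Perm.mul_apply, Equiv.Perm.mul_apply, show x ((g : Equiv.Perm (Fin 416))⁻¹ 0) = _ from hx,
        Equiv.Perm.inv_def, Equiv.apply_symm_apply]
    obtain ⟨a, ha, e⟩ := this
    exact (MulAut.conj (g : Equiv.Perm (Fin 416))).injective e ▸ ha

end Cfsg.Agent.SuzRec
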