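import Cfsg.Agent.Lib.SuzRec.PinCheck
import Cfsg.Agent.Lib.SuzRec.SubB
import Cfsg.Agent.Lib.SuzRec.SubJ

/-! Suborbits of the coded group on points and on the 96-sets. -/

set_option autoImplicit false
set_option maxRecDepth 20000

namespace Cfsg.Agent.SuzRec

open Cfsg.Agent.PermCert Cfsg.Agent.G24J2
open scoped Pointwise

attribute [local irreducible] g24Gens g24Levels labs mE orbHLab orbHTree orbAGens orbBGens lineRows
  maskRows sbGens sbPerms sbLineLab sbLineOrd sbLineRank sbLinePar stabGens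

/-- Adjacency on the 416 points: an image of the pair (0, 4). -/
def Madj (p q : Fin 416) : Prop := ∃ σ ∈ M, σ 0 = p ∧ σ 4 = q

/-- The suborbit of size 100. -/
def D100 : Set (Fin 416) := {x | labOf orbHLab x = 1}

theorem mE_facts : toPerm 9 416 mE ∈ M ∧ toPerm 9 416 mE 0 = 4 ∧
    (toPerm 9 416 mE)⁻¹ 0 ∈ D100 ∧ (toPerm 9 416 mE)⁻¹ 5 ∈ D100 ∧ (toPerm 9 416 mE)⁻¹ 6 ∈ D100 ∧
    (4 : Fin 416) ∈ D100 ∧ (5 : Fin 416) ∈ D100 ∧ (6 : Fin 416) ∈ D100 ∧ orbHRoots = [0, 4, 1] := by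
  have h := mE_ok
  simp only [Bool.and_eq_true, Nat.beq_eq, beq_iff_eq] at h
  obtain ⟨⟨⟨⟨⟨⟨⟨⟨⟨⟨hin, h0⟩, i0⟩, i5⟩, i6⟩, l4⟩, l5⟩, l6⟩, hr⟩, -⟩, -⟩ := h
  obtain ⟨hv, hm⟩ := code_mem (List.all_eq_true.1 hin mE List.mem_cons_self)
  have hi : ∀ x : Fin 416, ((toPerm 9 416 mE)⁻¹ x : ℕ) = get 9 mE.2 x := fun x =>
    ((rep_toPerm hv) x).2.symm
  refine ⟨hm, toPerm_apply hv h0, ?_, ?_, ?_, l4, l5, l6, hr⟩
  · show labOf orbHLab _ = 1; rw [hi]; exact i0
  · show labOf orbHLab _ = 1; rw [hi]; exact i5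
  · show labOf orbHLab _ = 1; rw [hi]; exact i6

theorem lab_lt (x : Fin 416) : labOf orbHLab x < 3 ∧ (labOf orbHLab x = 0 → x = 0) := by
  have h := allBelow_spec _ _ labs_ok x x.2
  simp only [Bool.and_eq_true, Nat.beq_eq, Nat.blt_eq, Bool.or_eq_true, Bool.not_eq_true',
    Bool.eq_false_iff, ne_eq] at h
  refine ⟨h.1.2, fun h0 => ?_⟩
  rcases h.2 with h' | h'
  · exact absurd h0 h'
  · exact Fin.ext h'

theorem lab_zero : labOf orbHLab 0 = 0 := by
  have h := (root_spec orbH_ok (k := 0) (by rw [roots_ok.2.1]; norm_num)).2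
  rwa [roots_ok.2.2.1] at h

/-- The orbits of the point stabiliser. -/
theorem J_orbit (y x : Fin 416) : (∃ h ∈ Jp 0, h y = x) ↔ labOf orbHLab x = labOf orbHLab y := by
  rw [← orbit_iff orbH_ok y x (by rw [roots_ok.2.1]; exact (lab_lt y).1)]
  constructor
  · rintro ⟨h, hh, e⟩
    exact ⟨h, stab_eq h hh.1 hh.2, e⟩
  · rintro ⟨σ, hσ, e⟩
    have hle : genGroup 9 416 stabGens ≤ Jp 0 := (Subgroup.closure_le _).2 fun τ hτ => by
      obtain ⟨g, hg, rfl⟩ := List.mem_map.1 hτ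
      exact stabGens_sub hg
    exact ⟨σ, hle hσ, e⟩

theorem Madj_zero {q : Fin 416} : Madj 0 q ↔ q ∈ D100 := by
  have l4 : labOf orbHLab ((4 : Fin 416) : ℕ) = 1 := mE_facts.2.2.2.2.2.1
  constructor
  · rintro ⟨σ, hσ, h0, h4⟩
    exact ((J_orbit 4 q).1 ⟨σ, ⟨hσ, h0⟩, h4⟩).trans l4
  · intro hq
    obtain ⟨h, hh, e⟩ := (J_orbit 4 q).2 (hq.trans l4.symm)
    exact ⟨h, hh.1, hh.2, e⟩

theorem Madj_smul {p q : Fin 416} {τ : Equiv.Perm (Fin 416)} (hτ : τ ∈ M) (h : Madj p q) :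
    Madj (τ p) (τ q) := by
  obtain ⟨σ, hσ, h0, h4⟩ := h
  exact ⟨τ * σ, mul_mem hτ hσ, by rw [Equiv.Perm.mul_apply, h0], by rw [Equiv.Perm.mul_apply, h4]⟩

theorem Madj_four {q : Fin 416} (hq : (toPerm 9 416 mE)⁻¹ q ∈ D100) : Madj 4 q := by
  have h := Madj_smul mE_facts.1 (Madj_zero.2 hq)
  rwa [mE_facts.2.1, Equiv.Perm.inv_def, Equiv.apply_symm_apply] at h

theorem Madj_symm {p q : Fin 416} (h : Madj p q) : Madj q p := by
  obtain ⟨σ, hσ, h0, h4⟩ := h
  have := Madj_smul hσ (Madj_four mE_facts.2.2.1)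
  rwa [h0, h4] at this

theorem Madj_irrefl (p : Fin 416) : ¬ Madj p p := by
  rintro ⟨σ, -, h0, h4⟩
  have := σ.injective (h0.trans h4.symm)
  exact absurd this (by decide)

theorem D100_facts : D100.ncard = 100 ∧ {x : Fin 416 | labOf orbHLab x = 2}.ncard = 315 := by
  have h := subdeg_ok
  simp only [Bool.and_eq_true, Nat.beq_eq] at h
  rw [cnt_eq_ncard, cnt_eq_ncard] at h
  simp only [Nat.beq_eq] at h
  exact h

theorem pinA {x : Fin 416} (hx : x ∈ D100)
    (hfix : ∀ h ∈ Jp 0, h 4 = 4 → h x = x) : x = 4 := by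
  have h := allBelow_spec _ _ pins_ok x x.2
  simp only [Bool.and_eq_true, Bool.or_eq_true, Bool.not_eq_true', Bool.eq_false_iff, ne_eq, Nat.beq_eq,
    List.any_eq_true] at h
  rcases h.1 with (h' | h') | ⟨e, he, hne⟩
  · exact absurd hx h'
  · exact Fin.ext h'
  · obtain ⟨hv, hm, h0, hy⟩ := two_spec (List.all_eq_true.1 twoA_ok e he) (p := (4 : Fin 416)) (by
      have h := mE_ok
      simp only [Bool.and_eq_true, Nat.beq_eq] at h
      exact h.1.2.symm)
    refine absurd ?_ hne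
    rw [((rep_toPerm hv) x).1, hfix _ ⟨hm, h0⟩ hy]

theorem pinB {x : Fin 416} (hx : labOf orbHLab x = 2)
    (hfix : ∀ h ∈ Jp 0, h 1 = 1 → h x = x) : x = 1 := by
  have h := allBelow_spec _ _ pins_ok x x.2
  simp only [Bool.and_eq_true, Bool.or_eq_true, Bool.not_eq_true', Bool.eq_false_iff, ne_eq, Nat.beq_eq,
    List.any_eq_true] at h
  rcases h.2 with (h' | h') | ⟨e, he, hne⟩
  · exact absurd hx h'
  · exact Fin.ext h'
  · obtain ⟨hv, hm, h0, hy⟩ := two_spec (List.all_eq_true.1 twoB_ok e he) (p := (1 : Fin 416)) (by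
      have h := mE_ok
      simp only [Bool.and_eq_true, Nat.beq_eq] at h
      exact h.2.symm)
    refine absurd ?_ hne
    rw [((rep_toPerm hv) x).1, hfix _ ⟨hm, h0⟩ hy]

/-- **No element swaps 0 and 4 fixing 5 and 6.** -/
theorem no_swap {σ : Equiv.Perm (Fin 416)} (hσ : σ ∈ M) (h0 : σ 0 = 4) (h4 : σ 4 = 0) (h5 : σ 5 = 5)
    (h6 : σ 6 = 6) : False := by
  obtain ⟨es, h1, -, -⟩ := search_M (cs := []) (pts := [(0, 4), (4, 0), (5, 5), (6, 6)]) (by simp)
    (by simp) hσ (by simp) (fun p hp i hi => by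
      simp only [List.mem_cons, List.not_mem_nil, or_false] at hp
      rcases hp with rfl | rfl | rfl | rfl
      · rw [show i = 0 from Fin.ext hi, h0]; rfl
      · rw [show i = 4 from Fin.ext hi, h4]; rfl
      · rw [show i = 5 from Fin.ext hi, h5]; rfl
      · rw [show i = 6 from Fin.ext hi, h6]; rfl)
  have := w_ok
  rw [List.isEmpty_iff] at this
  rw [this] at h1
  exact List.not_mem_nil h1

theorem sb_facts : (∀ e ∈ sbGens, validElt 9 416 e = true) ∧
    classTest sbPerms sbLineRoots sbLineOrd sbLineRank sbLinePar sbLineLab = true ∧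
      sbLineRoots.length = 4 := by
  have hg := gens_in
  simp only [Bool.and_eq_true] at hg
  have hc := sb_class_ok
  simp only [Bool.and_eq_true, Nat.beq_eq] at hc
  exact ⟨(word_mem hg.1.2).1, hc.1, hc.2⟩

theorem sb_le : genGroup 9 416 sbGens ≤ StL 0 := (Subgroup.closure_le _).2 fun σ hσ => by
  obtain ⟨e, he, rfl⟩ := List.mem_map.1 hσ
  have hg := gens_in
  simp only [Bool.and_eq_true] at hg
  refine ⟨(code_mem (List.all_eq_true.1 hg.1.2 e he)).2, ?_⟩
  obtain ⟨p, hp, hpj⟩ := (imgAll_spec sbImg_ok sb_facts.1).1 e he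
  have hf := fixes_ok
  simp only [Bool.and_eq_true, List.all_eq_true, Nat.beq_eq] at hf
  have := (hpj 0 (by norm_num)).2
  rw [hf.1.1.2 p hp] at this
  exact this

/-- The stabiliser of the first set fixes no other. -/
theorem StL_fix {j : ℕ} (hj : j < 1365) (h : ∀ σ ∈ StL 0, σ • lineSet j = lineSet j) : j = 0 := by
  have hm := all1365_spec _ sb_moves j hj
  simp only [Bool.or_eq_true, List.any_eq_true, Bool.not_eq_true', Bool.eq_false_iff, ne_eq,
    Nat.beq_eq] at hm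
  rcases hm with h' | ⟨p, hp, hne⟩
  · exact h'
  · obtain ⟨c, hc, rfl⟩ := List.getElem_of_mem hp
    obtain ⟨e, he, hej⟩ := (imgAll_spec sbImg_ok sb_facts.1).2 c hc
    rw [List.getD_eq_getElem _ _ hc] at hej
    obtain ⟨h1, h2⟩ := hej j hj
    rw [h _ (sb_le (mem_genGroup_toPerm he))] at h2
    exact absurd (lineSet_inj hj h1 h2).symm hne

/-- The class of sets meeting the first one in 24 points. -/
theorem meet_iff {j : ℕ} (hj : j < 1365) :
    (lineSet 0 ∩ lineSet j).ncard = 24 ↔ labOf sbLineLab j = 2 := by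
  obtain ⟨hv, hc, hlen⟩ := sb_facts
  obtain ⟨hl, hr, σ, hσ, e⟩ := class_reach hv sbImg_ok hc hj
  have h0 : σ • lineSet 0 = lineSet 0 := (sb_le hσ).2
  have h := allBelow_spec _ _ sb_meet (labOf sbLineLab j) (hlen ▸ hl)
  simp only [decide_eq_true_eq, cnt_eq_ncard] at h
  conv_lhs => rw [← h0, ← e, ← Set.smul_set_inter, Set.ncard_smul_set]
  rw [Bool.eq_iff_iff, Nat.beq_eq, Nat.beq_eq] at h
  convert h using 4
  ext x
  simp [lineSet]

/-- **A union of classes of 320 sets without the first consists of those meeting it in 24 points.** -/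
theorem nbr_class {T : Set (Fin 1365)} (hT : T.ncard = 320) (h0 : (0 : Fin 1365) ∉ T)
    (hinv : ∀ σ ∈ StL 0, ∀ a b : Fin 1365, a ∈ T → σ • lineSet a = lineSet b → b ∈ T) :
    T = {a : Fin 1365 | (lineSet 0 ∩ lineSet a).ncard = 24} := by
  classical
  obtain ⟨hv, hc, hlen⟩ := sb_facts
  have hroot : ∀ k, k < 4 → sbLineRoots.getD k 0 < 1365 ∧ labOf sbLineLab (sbLineRoots.getD k 0) = k := by
    intro k hk
    have h := hc
    simp only [classTest, Bool.and_eq_true] at h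
    have := allBelow_spec _ _ h.1.2 k (hlen ▸ hk)
    simp only [Bool.and_eq_true, Nat.blt_eq, Nat.beq_eq] at this
    exact this.1
  let r : Fin 4 → Fin 1365 := fun k => ⟨_, (hroot k k.2).1⟩
  let m := Nat.ofBits fun k : Fin 4 => decide (r k ∈ T)
  have hTeq : T = {a : Fin 1365 | Nat.testBit m (labOf sbLineLab a) = true} := by
    ext a
    obtain ⟨hl, -, σ, hσ, e⟩ := class_reach hv sbImg_ok hc a.2
    rw [hlen] at hl
    show _ ↔ (Nat.ofBits fun k : Fin 4 => decide (r k ∈ T)).testBit (labOf sbLineLab a) = true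
    rw [Nat.testBit_ofBits_lt _ _ hl, decide_eq_true_eq]
    exact ⟨fun ha => hinv _ (inv_mem (sb_le hσ)) a _ ha (by rw [← e, inv_smul_smul]),
      fun hr => hinv _ (sb_le hσ) _ a hr e⟩
  have hm0 : m.testBit 0 = false := by
    rw [Bool.eq_false_iff]
    intro h
    refine h0 ?_
    rw [hTeq]
    have hz : labOf sbLineLab 0 = 0 := by
      have hroot0 : sbLineRoots.getD 0 0 = 0 := by decide +kernel
      have := (hroot 0 (by norm_num)).2
      rwa [hroot0] at this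
    show m.testBit (labOf sbLineLab ((0 : Fin 1365) : ℕ)) = true
    rw [show ((0 : Fin 1365) : ℕ) = 0 from rfl, hz]
    exact h
  have hs := sb_sums
  simp only [Bool.and_eq_true] at hs
  have := allBelow_spec _ _ hs.2 m (Nat.ofBits_lt_two_pow _)
  have hsum : lineSum sbLineLab m = 320 := by
    rw [lineSum, cnt_eq_ncard, ← hTeq, hT]
  simp only [hm0, hsum, Bool.false_or, Bool.or_eq_true, Bool.not_eq_true', Bool.eq_false_iff, ne_eq,
    Nat.beq_eq, not_true, false_or] at this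
  rw [hTeq, this]
  ext a
  rw [Set.mem_ofPred_eq, Set.mem_ofPred_eq, meet_iff a.2, show 4 = 2 ^ 2 from rfl, Nat.testBit_two_pow,
    decide_eq_true_eq, eq_comm]

/-- A line through every point. -/
theorem exists_line_through (p : Fin 416) : ∃ j : Fin 1365, p ∈ lineSet j := by
  obtain ⟨x, hx⟩ : (lineSet 0).Nonempty := by
    rw [← Set.ncard_pos, lineSet_ncard (by norm_num)]; norm_num
  obtain ⟨σ, hσ, e⟩ := M_trans x p
  obtain ⟨b, hb, e'⟩ := M_lines_closed hσ (show 0 < 1365 by norm_num)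
  exact ⟨⟨b, hb⟩, e' ▸ ⟨x, hx, e⟩⟩

end Cfsg.Agent.SuzRec
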