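import Cfsg.Agent.Lib.J2.Chain

/-!
Kernel-checked backtrack search in a coded permutation group: every element of a certified chain
satisfying point and commutation constraints is one of the leaves.
-/

set_option autoImplicit false

namespace Cfsg.Agent.SuzRec

open Cfsg.Agent.PermCert

variable {w n : ℕ}

/-- Apply a word of codes, the last code first. -/
def appE (w : ℕ) (es : List Elt) (i : ℕ) : ℕ := es.foldr (fun e x => get w e.1 x) i

/-- Apply the inverse of a word of codes. -/
def appI (w : ℕ) (es : List Elt) (i : ℕ) : ℕ := es.foldl (fun x e => get w e.2 x) i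

/-- The inverse word. -/
def invW (es : List Elt) : List Elt := es.reverse.map Prod.swap

/-- The permutation of a word. -/
def toW (w n : ℕ) (es : List Elt) : Equiv.Perm (Fin n) := (es.map (toPerm w n)).prod

/-- All codes of a word are valid. -/
def validW (w n : ℕ) (es : List Elt) : Bool := es.all fun e => validElt w n e

@[simp] theorem toW_nil : toW w n [] = 1 := rfl

@[simp] theorem toW_cons (e : Elt) (es : List Elt) : toW w n (e :: es) = toPerm w n e * toW w n es := by
  simp [toW]

theorem toW_append (a b : List Elt) : toW w n (a ++ b) = toW w n a * toW w n b := by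
  simp [toW]

theorem appE_toW : ∀ {es : List Elt}, (∀ e ∈ es, validElt w n e = true) → ∀ i : Fin n,
    appE w es i = (toW w n es i : ℕ)
  | [], _, i => by simp [appE]
  | e :: es, h, i => by
    show get w e.1 (appE w es i) = _
    rw [appE_toW (fun x hx => h x (List.mem_cons_of_mem _ hx)) i,
      ((rep_toPerm (h e List.mem_cons_self)) _).1]
    simp

theorem appI_toW : ∀ {es : List Elt}, (∀ e ∈ es, validElt w n e = true) → ∀ i : Fin n,
    appI w es i = ((toW w n es)⁻¹ i : ℕ)
  | [], _, i => by simp [appI]
  | e :: es, h, i => by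
    show appI w es (get w e.2 i) = _
    rw [((rep_toPerm (h e List.mem_cons_self)) i).2,
      appI_toW (fun x hx => h x (List.mem_cons_of_mem _ hx)), toW_cons, mul_inv_rev,
      Equiv.Perm.mul_apply]

theorem swap_valid {e : Elt} (h : validElt w n e = true) :
    validElt w n e.swap = true ∧ toPerm w n e.swap = (toPerm w n e)⁻¹ := by
  have hv : validElt w n e.swap = true := by
    have key : ∀ k, allBelow (fun i => Nat.blt (get w e.1 i) n && Nat.blt (get w e.2 i) n &&
        Nat.beq (get w e.1 (get w e.2 i)) i && Nat.beq (get w e.2 (get w e.1 i)) i) k = true →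
        allBelow (fun i => Nat.blt (get w e.2 i) n && Nat.blt (get w e.1 i) n &&
          Nat.beq (get w e.2 (get w e.1 i)) i && Nat.beq (get w e.1 (get w e.2 i)) i) k = true := by
      intro k
      induction k with
      | zero => intro _; rfl
      | succ k ih =>
        intro hk
        simp only [allBelow, Bool.and_eq_true] at hk ⊢
        obtain ⟨h1, h2⟩ := hk
        exact ⟨ih h1, ⟨⟨⟨h2.1.1.2, h2.1.1.1⟩, h2.2⟩, h2.1.2⟩⟩
    exact key n h
  refine ⟨hv, rep_unique (rep_toPerm hv) fun i => ?_⟩
  have := rep_toPerm h i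
  exact ⟨this.2, by rw [inv_inv]; exact this.1⟩

theorem invW_toW : ∀ {es : List Elt}, (∀ e ∈ es, validElt w n e = true) →
    (∀ e ∈ invW es, validElt w n e = true) ∧ toW w n (invW es) = (toW w n es)⁻¹
  | [], _ => by simp [invW]
  | e :: es, h => by
    obtain ⟨h1, h2⟩ := invW_toW fun x hx => h x (List.mem_cons_of_mem _ hx)
    obtain ⟨h3, h4⟩ := swap_valid (h e List.mem_cons_self)
    have he : invW (e :: es) = invW es ++ [e.swap] := by simp [invW]
    rw [he, toW_append, h2]
    refine ⟨fun x hx => ?_, by simp [h4]⟩
    rcases List.mem_append.1 hx with hx | hx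
    · exact h1 x hx
    · rw [List.mem_singleton.1 hx]; exact h3

/-- The transversal codes of a chain. -/
def transCodes (L : List CLevel) : List Elt := L.flatMap fun l => l.2.2.map fun t => t.2.1

/-- The codes of a chain keep the label. -/
def keeps (w lw n : ℕ) (es : List Elt) (lab : ℕ) : Bool :=
  es.all fun e => allBelow (fun i => Nat.beq (get lw lab (get w e.1 i)) (get lw lab i)) n

/-- Labels for all suffixes of a chain. -/
def labsOK (w lw n : ℕ) : List CLevel → List ℕ → Bool
  | [], _ => true
  | l :: L, c :: cs => keeps w lw n (transCodes (l :: L)) c && labsOK w lw n L cs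
  | _ :: _, [] => false

/-- One node of the search. -/
def nodeOK (w lw c : ℕ) (pre : List Elt) (pts : List (ℕ × ℕ)) : Bool :=
  pts.all fun p => Nat.beq (get lw c (appI w pre p.2)) (get lw c p.1)

/-- The search: products along the chain satisfying `g u = v g` for the pairs in `cs` and `g x = y`
for the pairs in `pts`. -/
def srch (w lw : ℕ) (cs : List (List Elt × List Elt)) :
    List CLevel → List ℕ → List Elt → List (ℕ × ℕ) → List (List Elt)
  | [], _, pre, pts => if pts.all (fun p => Nat.beq (appE w pre p.1) p.2) then [pre] else []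
  | _ :: _, [], _, _ => []
  | (b, _, T) :: L, c :: labs, pre, pts =>
    if nodeOK w lw c pre pts then
      T.flatMap fun t => srch w lw cs L labs (pre ++ [t.2.1])
        (cs.map (fun uv => (appE w uv.1 b, appE w uv.2 (appE w (pre ++ [t.2.1]) b))) ++ pts)
    else []

theorem keeps_prodSet [NeZero n] {lw c : ℕ} : ∀ {L : List CLevel},
    (∀ e ∈ transCodes L, validElt w n e = true) → keeps w lw n (transCodes L) c = true →
    ∀ x ∈ prodSet (interp w n L), ∀ i : Fin n, get lw c (x i : ℕ) = get lw c i
  | [], _, _, x, hx, i => by simp [interp, prodSet] at hx; simp [hx]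
  | (b, S, T) :: L, hv, hk, x, hx, i => by
    obtain ⟨t, ht, h, hh, rfl⟩ := hx
    obtain ⟨t', ht', rfl⟩ := List.mem_map.1 ht
    have hsub : ∀ e ∈ transCodes L, e ∈ transCodes ((b, S, T) :: L) := fun e he => by
      simp only [transCodes, List.flatMap_cons, List.mem_append]; exact Or.inr he
    have hk' : keeps w lw n (transCodes L) c = true := List.all_eq_true.2 fun e he =>
      List.all_eq_true.1 hk e (hsub e he)
    have hmem : t'.2.1 ∈ transCodes ((b, S, T) :: L) := by
      simp only [transCodes, List.flatMap_cons, List.mem_append]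
      exact Or.inl (List.mem_map.2 ⟨t', ht', rfl⟩)
    have hr := rep_toPerm (hv _ hmem)
    rw [epsilon_rep hr, Equiv.Perm.mul_apply, ← (hr (h i)).1,
      Nat.eq_of_beq_eq_true (allBelow_spec _ _ (List.all_eq_true.1 hk _ hmem) _ (h i).2)]
    exact keeps_prodSet (fun e he => hv e (hsub e he)) hk' h hh i

/-- **Completeness and soundness of the search.** -/
theorem srch_complete [NeZero n] {lw : ℕ} {cs : List (List Elt × List Elt)}
    (hcs : ∀ uv ∈ cs, (∀ e ∈ uv.1, validElt w n e = true) ∧ (∀ e ∈ uv.2, validElt w n e = true)) :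
    ∀ {L : List CLevel} {labs : List ℕ}, Good (interp w n L) →
      (∀ e ∈ transCodes L, validElt w n e = true) →
      (∀ l ∈ L, l.1 < n) → labsOK w lw n L labs = true → ∀ {pre : List Elt},
      (∀ e ∈ pre, validElt w n e = true) → ∀ {pts : List (ℕ × ℕ)}, (∀ p ∈ pts, p.1 < n ∧ p.2 < n) →
      ∀ x ∈ prodSet (interp w n L),
      (∀ uv ∈ cs, toW w n pre * x * toW w n uv.1 = toW w n uv.2 * (toW w n pre * x)) →
      (∀ p ∈ pts, ∀ i : Fin n, (i : ℕ) = p.1 → ((toW w n pre * x) i : ℕ) = p.2) →
      ∃ es ∈ srch w lw cs L labs pre pts, (∀ e ∈ es, validElt w n e = true) ∧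
        toW w n es = toW w n pre * x := by
  intro L
  induction L with
  | nil =>
    intro labs _ _ _ _ pre hpre pts hlt x hx _ hp
    simp [interp, prodSet] at hx
    subst hx
    refine ⟨pre, ?_, hpre, (mul_one _).symm⟩
    have : pts.all (fun p => Nat.beq (appE w pre p.1) p.2) = true := List.all_eq_true.2 fun p hp' => by
      have h1 := hp p hp' ⟨p.1, (hlt p hp').1⟩ rfl
      rw [mul_one, ← appE_toW hpre] at h1
      rw [Nat.beq_eq]; exact h1
    rw [srch, if_pos this]
    exact List.mem_singleton_self _
  | cons l L ih =>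
    obtain ⟨b, S, T⟩ := l
    intro labs hg hv hb hlab pre hpre pts hlt x hx hc hp
    cases labs with
    | nil => simp [labsOK] at hlab
    | cons c labs =>
      simp only [labsOK, Bool.and_eq_true] at hlab
      have hnode : nodeOK w lw c pre pts = true := List.all_eq_true.2 fun p hp' => by
        obtain ⟨h1, h2⟩ := hlt p hp'
        have e1 := hp p hp' ⟨p.1, h1⟩ rfl
        rw [Nat.beq_eq, appI_toW hpre ⟨p.2, h2⟩]
        have e2 : x ⟨p.1, h1⟩ = (toW w n pre)⁻¹ ⟨p.2, h2⟩ := by
          rw [Equiv.Perm.eq_inv_iff_eq]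
          exact Fin.ext e1
        rw [← e2]
        exact keeps_prodSet hv hlab.1 x hx _
      rw [srch, if_pos hnode]
      obtain ⟨t, ht, h, hh, rfl⟩ := hx
      obtain ⟨t', ht', rfl⟩ := List.mem_map.1 ht
      have hsub : ∀ e ∈ transCodes L, e ∈ transCodes ((b, S, T) :: L) := fun e he => by
        simp only [transCodes, List.flatMap_cons, List.mem_append]; exact Or.inr he
      have hmem : t'.2.1 ∈ transCodes ((b, S, T) :: L) := by
        simp only [transCodes, List.flatMap_cons, List.mem_append]
        exact Or.inl (List.mem_map.2 ⟨t', ht', rfl⟩)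
      have hr := epsilon_rep (rep_toPerm (hv _ hmem))
      have hpre' : ∀ e ∈ pre ++ [t'.2.1], validElt w n e = true := fun e he => by
        rcases List.mem_append.1 he with he | he
        · exact hpre e he
        · rw [List.mem_singleton.1 he]; exact hv _ hmem
      have hW : toW w n (pre ++ [t'.2.1]) * h = toW w n pre * (toPerm w n t'.2.1 * h) := by
        rw [toW_append]; simp [mul_assoc]
      rw [hr] at hc hp ⊢
      rw [← hW] at hc hp ⊢
      have hbn : b < n := hb _ List.mem_cons_self
      have hfix : ∀ uv ∈ cs, ∀ i : Fin n, (i : ℕ) = b →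
          ((toW w n (pre ++ [t'.2.1]) * h) i = toW w n (pre ++ [t'.2.1]) i) →
          appE w uv.1 b < n ∧ appE w uv.2 (appE w (pre ++ [t'.2.1]) b) < n ∧
          ∀ j : Fin n, (j : ℕ) = appE w uv.1 b →
            ((toW w n (pre ++ [t'.2.1]) * h) j : ℕ) = appE w uv.2 (appE w (pre ++ [t'.2.1]) b) := by
        intro uv huv i hi hfx
        obtain ⟨h1, h2⟩ := hcs uv huv
        rw [← hi, appE_toW h1, appE_toW hpre', appE_toW h2]
        refine ⟨Fin.is_lt _, Fin.is_lt _, fun j hj => ?_⟩
        rw [Fin.ext hj, ← Equiv.Perm.mul_apply, hc uv huv, Equiv.Perm.mul_apply, hfx]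
      have hfb : ∀ i : Fin n, (i : ℕ) = b → h i = i := fun i hi => by
        have h0 := fix_of_mem_prodSet hg hh
        rw [show i = Fin.ofNat n b from Fin.ext (by simp [hi, Nat.mod_eq_of_lt hbn])]
        exact h0
      obtain ⟨es, hes, hesv, hese⟩ := ih (labs := labs) hg.1 (fun e he => hv e (hsub e he))
        (fun l hl => hb l (List.mem_cons_of_mem _ hl)) hlab.2 hpre'
        (pts := cs.map (fun uv => (appE w uv.1 b, appE w uv.2 (appE w (pre ++ [t'.2.1]) b))) ++ pts)
        (fun p hp' => by
          rcases List.mem_append.1 hp' with h' | h'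
          · obtain ⟨uv, huv, rfl⟩ := List.mem_map.1 h'
            have := hfix uv huv ⟨b, hbn⟩ rfl (by rw [Equiv.Perm.mul_apply, hfb _ rfl])
            exact ⟨this.1, this.2.1⟩
          · exact hlt p h') h hh hc
        (fun p hp' => by
          rcases List.mem_append.1 hp' with h' | h'
          · obtain ⟨uv, huv, rfl⟩ := List.mem_map.1 h'
            exact (hfix uv huv ⟨b, hbn⟩ rfl (by rw [Equiv.Perm.mul_apply, hfb _ rfl])).2.2
          · exact hp p h')
      exact ⟨es, List.mem_flatMap.2 ⟨t', ht', hes⟩, hesv, hese⟩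

theorem srch_sound [NeZero n] {lw : ℕ} {cs : List (List Elt × List Elt)} :
    ∀ {L : List CLevel} {labs : List ℕ}, (∀ e ∈ transCodes L, validElt w n e = true) →
      ∀ {pre : List Elt}, (∀ e ∈ pre, validElt w n e = true) → ∀ {pts : List (ℕ × ℕ)} {es : List Elt},
      es ∈ srch w lw cs L labs pre pts →
      (∀ e ∈ es, validElt w n e = true) ∧ ∃ x ∈ prodSet (interp w n L), toW w n es = toW w n pre * x := by
  intro L
  induction L with
  | nil =>
    intro labs _ pre hpre pts es h
    rw [srch] at h
    split at h
    · rw [List.mem_singleton] at h; subst h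
      exact ⟨hpre, 1, by simp [interp, prodSet], (mul_one _).symm⟩
    · simp at h
  | cons l L ih =>
    obtain ⟨b, S, T⟩ := l
    intro labs hv pre hpre pts es h
    cases labs with
    | nil => simp [srch] at h
    | cons c labs =>
      rw [srch] at h
      split at h
      · obtain ⟨t, ht, h⟩ := List.mem_flatMap.1 h
        have hsub : ∀ e ∈ transCodes L, e ∈ transCodes ((b, S, T) :: L) := fun e he => by
          simp only [transCodes, List.flatMap_cons, List.mem_append]; exact Or.inr he
        have hmem : t.2.1 ∈ transCodes ((b, S, T) :: L) := by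
          simp only [transCodes, List.flatMap_cons, List.mem_append]
          exact Or.inl (List.mem_map.2 ⟨t, ht, rfl⟩)
        obtain ⟨h1, x, hx, h2⟩ := ih (fun e he => hv e (hsub e he)) (pre := pre ++ [t.2.1])
          (fun e he => by
            rcases List.mem_append.1 he with he | he
            · exact hpre e he
            · rw [List.mem_singleton.1 he]; exact hv _ hmem) h
        refine ⟨h1, toPerm w n t.2.1 * x, ⟨_, List.mem_map.2 ⟨t, ht, rfl⟩, x, hx, ?_⟩, ?_⟩
        · rw [epsilon_rep (rep_toPerm (hv _ hmem))]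
        · rw [h2, toW_append]; simp [mul_assoc]
      · simp at h

end Cfsg.Agent.SuzRec
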